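import Cfsg.Agent.S4399
import Cfsg.Agent.Lib.PGroup.MaximalClass
import Cfsg.Prelude.Def_OddOrderLocal
import Mathlib.GroupTheory.SpecificGroups.Quaternion
import Mathlib.GroupTheory.SpecificGroups.Cyclic

/-!
# Facts about metacyclic 2-groups
-/

set_option autoImplicit false

namespace CfsgLib.FusionMetacyclic

open Subgroup

/-- A group embedded in a metacyclic group is metacyclic. -/
theorem isMetacyclic_of_injective {X : Type*} [Group X] {Y : Type*} [Group Y] (f : Y →* X)
    (hf : Function.Injective f) (hm : Cfsg.IsMetacyclic X) : Cfsg.IsMetacyclic Y := by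
  obtain ⟨M, hMn, hMc, hQc⟩ := hm
  have hn : (M.comap f).Normal := hMn.comap f
  refine ⟨M.comap f, hn, ?_, ?_⟩
  · exact isCyclic_of_injective ((f.comp (M.comap f).subtype).codRestrict M fun y => y.2)
      fun a b h => Subtype.ext (hf (congrArg Subtype.val h :))
  · refine isCyclic_of_injective (QuotientGroup.map (M.comap f) M f le_rfl) ?_
    rw [injective_iff_map_eq_one]
    intro y hy
    obtain ⟨y, rfl⟩ := QuotientGroup.mk'_surjective _ y
    exact (QuotientGroup.eq_one_iff _).2 ((QuotientGroup.eq_one_iff (f y)).1 hy)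

/-- Subgroups of a finite cyclic group are ordered by divisibility of orders. -/
theorem le_of_card_dvd_cyclic {Q : Type*} [Group Q] [Finite Q] [hQ : IsCyclic Q] {H K : Subgroup Q}
    (h : Nat.card H ∣ Nat.card K) : H ≤ K := by
  classical
  letI := Fintype.ofFinite Q
  intro x hx
  have hxp : x ^ Nat.card K = 1 := by
    obtain ⟨c, hc⟩ := h
    rw [hc, pow_mul, (show x ^ Nat.card H = 1 from congrArg Subtype.val (pow_card_eq_one' (x := (⟨x, hx⟩ : H)))), one_pow]
  have hsub : (Finset.univ.filter fun y : Q => y ∈ K) ⊆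
      Finset.univ.filter fun y : Q => y ^ Nat.card K = 1 := by
    intro y hy
    simp only [Finset.mem_filter, Finset.mem_univ, true_and] at hy ⊢
    exact congrArg Subtype.val (pow_card_eq_one' (x := (⟨y, hy⟩ : K)))
  have hcK : (Finset.univ.filter fun y : Q => y ∈ K).card = Nat.card K := by
    rw [Nat.card_eq_fintype_card, Fintype.card_subtype]
  have heq := Finset.eq_of_subset_of_card_le hsub
    ((IsCyclic.card_pow_eq_one_le (α := Q) (n := Nat.card K) Nat.card_pos).trans hcK.ge)
  have : x ∈ Finset.univ.filter fun y : Q => y ^ Nat.card K = 1 := by simpa using hxp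
  rw [← heq] at this
  simpa using this

/-- A cyclic group has at most one element of order two. -/
theorem eq_of_sq_eq_one {Q : Type*} [Group Q] [Finite Q] [IsCyclic Q] {x y : Q}
    (hx : x ^ 2 = 1) (hx1 : x ≠ 1) (hy : y ^ 2 = 1) (hy1 : y ≠ 1) : x = y := by
  have hox : orderOf x = 2 := orderOf_eq_prime hx hx1
  have hoy : orderOf y = 2 := orderOf_eq_prime hy hy1
  have h : zpowers x ≤ zpowers y :=
    le_of_card_dvd_cyclic (by rw [Nat.card_zpowers, Nat.card_zpowers, hox, hoy])
  obtain ⟨n, hn⟩ := mem_zpowers_iff.1 (h (mem_zpowers x))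
  rcases Int.even_or_odd n with ⟨m, hm⟩ | ⟨m, hm⟩
  · exfalso
    refine hx1 ?_
    rw [← hn, hm, ← two_mul, zpow_mul, zpow_ofNat, hy, one_zpow]
  · rw [← hn, hm, zpow_add, zpow_mul, zpow_ofNat, hy, one_zpow, one_mul, zpow_one]

variable {X : Type*} [Group X] [Finite X]

/-- A homocyclic subgroup of exponent at least 4 of a metacyclic 2-group is centralized modulo
squares: an element normalizing it, with square inside, fixes its involutions. -/
theorem fix_involution (hX : IsPGroup 2 X) (hm : Cfsg.IsMetacyclic X) {Y : Subgroup X} {e : ℕ}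
    (he : 2 ≤ e) (hcard : Nat.card Y = 2 ^ e * 2 ^ e) (hcomm : ∀ a ∈ Y, ∀ b ∈ Y, a * b = b * a)
    (hexp : ∀ a ∈ Y, a ^ 2 ^ e = 1) (hsq : ∀ w ∈ Y, w ^ 2 = 1 → ∃ z ∈ Y, z ^ 2 = w)
    {u : X} (hu : u ∈ normalizer (Y : Set X)) (hu2 : u ^ 2 ∈ Y) {w : X} (hw : w ∈ Y)
    (hw2 : w ^ 2 = 1) : u * w * u⁻¹ = w := by
  obtain ⟨M, hMn, hMc, hQc⟩ := hm
  have hMcomm : ∀ a ∈ M, ∀ b ∈ M, a * b = b * a := fun a ha b hb => by
    letI : CommGroup M := IsCyclic.commGroup
    exact congrArg Subtype.val (mul_comm (⟨a, ha⟩ : M) ⟨b, hb⟩)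
  let mk := QuotientGroup.mk' M
  by_cases hcase : mk u ∈ Y.map mk
  · -- `u` acts as an element of `M`
    obtain ⟨y, hy, hyu⟩ := hcase
    set m := y⁻¹ * u with hm
    have hmM : m ∈ M := (QuotientGroup.eq).1 hyu
    have hum : u = y * m := by rw [hm, mul_inv_cancel_left]
    have hmN : m ∈ normalizer (Y : Set X) :=
      mul_mem (inv_mem (le_normalizer hy)) hu
    have hm2 : m ^ 2 ∈ Y := by
      have h1 : u * y⁻¹ * u⁻¹ ∈ Y := (mem_normalizer_iff.1 hu _).1 (inv_mem hy)
      have h2 : m ^ 2 = y⁻¹ * (u * y⁻¹ * u⁻¹) * u ^ 2 := by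
        rw [hm, pow_two, pow_two]
        simp [mul_assoc]
      rw [h2]
      exact mul_mem (mul_mem (inv_mem hy) h1) hu2
    obtain ⟨z, hz, rfl⟩ := hsq w hw hw2
    set c := m * z * m⁻¹ * z⁻¹ with hc
    have hcY : c ∈ Y := mul_mem ((mem_normalizer_iff.1 hmN _).1 hz) (inv_mem hz)
    have hcM : c ∈ M := by
      rw [hc, mul_assoc m, mul_assoc m]
      exact mul_mem hmM (hMn.conj_mem _ (inv_mem hmM) z)
    have hmz : m * z * m⁻¹ = c * z := by rw [hc, inv_mul_cancel_right]
    have hmc : m * c * m⁻¹ = c := by rw [hMcomm m hmM c hcM, mul_inv_cancel_right]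
    have hc2 : c ^ 2 = 1 := by
      have h1 : m ^ 2 * z = z * m ^ 2 := hcomm _ hm2 _ hz
      have h2 : m * (c * z) * m⁻¹ = z := by
        rw [← hmz]
        calc m * (m * z * m⁻¹) * m⁻¹ = m ^ 2 * z * (m ^ 2)⁻¹ := by
              rw [pow_two]; simp [mul_assoc]
          _ = z := by rw [h1, mul_inv_cancel_right]
      have h3 : c * (c * z) = z := by
        calc c * (c * z) = (m * c * m⁻¹) * (m * z * m⁻¹) := by rw [hmc, hmz]
          _ = m * (c * z) * m⁻¹ := by simp [mul_assoc]
          _ = z := h2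
      rwa [← mul_assoc, ← pow_two, mul_eq_right] at h3
    have hmw : m * z ^ 2 * m⁻¹ = z ^ 2 := by
      rw [← conj_pow, hmz, (show Commute c z from hcomm c hcY z hz).mul_pow, hc2, one_mul]
    calc u * z ^ 2 * u⁻¹ = y * (m * z ^ 2 * m⁻¹) * y⁻¹ := by rw [hum]; simp [mul_assoc]
      _ = z ^ 2 := by rw [hmw, hcomm y hy _ (pow_mem hz 2), mul_inv_cancel_right]
  · -- `u ^ 2` generates `Y` modulo `M`
    have hQp : IsPGroup 2 (X ⧸ M) := hX.to_quotient M
    have hYle : Y.map mk ≤ zpowers (mk u ^ 2) := by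
      obtain ⟨a, ha⟩ := IsPGroup.iff_card.1 (hQp.to_subgroup (Y.map mk))
      obtain ⟨b, hb⟩ := hQp.exists_orderOf_eq_pow (mk u)
      have hab : a < b := by
        by_contra hcon
        push Not at hcon
        exact hcase (le_of_card_dvd_cyclic (H := zpowers (mk u)) (K := Y.map mk)
          (by rw [Nat.card_zpowers, hb, ha]; exact pow_dvd_pow 2 hcon) (mem_zpowers _))
      refine le_of_card_dvd_cyclic ?_
      rw [Nat.card_zpowers, ha, orderOf_pow_of_dvd (by norm_num) (by
        rw [hb]; exact dvd_pow_self 2 (by omega)), hb, show b = b - 1 + 1 by omega, pow_succ,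
        Nat.mul_div_cancel _ (by norm_num)]
      exact pow_dvd_pow 2 (by omega)
    let fm : Y →* X ⧸ M := mk.comp Y.subtype
    have hker : Nat.card fm.ker ≤ 2 ^ e := by
      let f : fm.ker →* M := (Y.subtype.comp fm.ker.subtype).codRestrict M
        fun x => (QuotientGroup.eq_one_iff _).1 x.2
      have hf : Function.Injective f := fun a b h =>
        Subtype.ext (Subtype.ext (congrArg Subtype.val h :))
      haveI : IsCyclic fm.ker := isCyclic_of_injective f hf
      obtain ⟨g, hg⟩ := IsCyclic.exists_generator (α := fm.ker)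
      rw [← orderOf_eq_card_of_forall_mem_zpowers hg]
      refine Nat.le_of_dvd (pow_pos (by norm_num) _) (orderOf_dvd_of_pow_eq_one ?_)
      exact Subtype.ext (Subtype.ext (hexp _ (g : Y).2))
    have hrange : 2 ^ e ≤ Nat.card fm.range := by
      have h1 : Nat.card Y = Nat.card fm.range * Nat.card fm.ker := by
        rw [Subgroup.card_eq_card_quotient_mul_card_subgroup fm.ker,
          Nat.card_congr (QuotientGroup.quotientKerEquivRange fm).toEquiv]
      rw [hcard] at h1
      by_contra hlt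
      push Not at hlt
      have h2 : Nat.card fm.range * Nat.card fm.ker < 2 ^ e * 2 ^ e :=
        Nat.mul_lt_mul_of_lt_of_le hlt hker (pow_pos (by norm_num) _)
      omega
    set z := u ^ 2 with hz
    have hrange' : fm.range ≤ zpowers (mk z) := by
      rintro _ ⟨y, rfl⟩
      rw [hz, map_pow]
      exact hYle ⟨y, y.2, rfl⟩
    have hzcard : 2 ^ e ≤ orderOf (mk z) := by
      rw [← Nat.card_zpowers]
      exact hrange.trans (Nat.card_le_card_of_injective _ (inclusion_injective hrange'))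
    obtain ⟨n, hn⟩ := mem_zpowers_iff.1 (hrange' ⟨⟨w, hw⟩, rfl⟩)
    replace hn : mk z ^ n = mk w := hn
    -- `z ^ n` squares to one
    have hzn2 : (z ^ n) ^ 2 = 1 := by
      have h1 : mk z ^ (n * 2) = 1 := by
        rw [zpow_mul, zpow_ofNat, hn, ← map_pow, hw2, map_one]
      have h2 : ((2 : ℤ) ^ e) ∣ n * 2 := by
        have h3 := orderOf_dvd_iff_zpow_eq_one.2 h1
        have h4 : orderOf (mk z) = 2 ^ e := le_antisymm (Nat.le_of_dvd (pow_pos (by norm_num) _)
          (orderOf_dvd_of_pow_eq_one (by rw [← map_pow, hexp z hu2, map_one]))) hzcard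
        rw [h4] at h3
        exact_mod_cast h3
      obtain ⟨k, hk⟩ := h2
      rw [← zpow_ofNat, ← zpow_mul, hk, zpow_mul, show (2 : ℤ) ^ e = ((2 ^ e : ℕ) : ℤ) by norm_cast,
        zpow_natCast, hexp z hu2, one_zpow]
    set c := (z ^ n)⁻¹ * w with hc
    have hcM : c ∈ M := (QuotientGroup.eq).1 ((map_zpow mk z n).trans hn)
    have hc2 : c ^ 2 = 1 := by
      have h1 : Commute (z ^ n)⁻¹ w := hcomm _ (inv_mem (zpow_mem hu2 n)) _ hw
      rw [hc, h1.mul_pow, inv_pow, hzn2, hw2, inv_one, one_mul]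
    have huc : u * c * u⁻¹ = c := by
      by_cases hc1 : c = 1
      · rw [hc1, mul_one, mul_inv_cancel]
      have h1 := eq_of_sq_eq_one (x := (⟨c, hcM⟩ : M))
        (y := ⟨u * c * u⁻¹, hMn.conj_mem c hcM u⟩) (Subtype.ext hc2)
        (fun h => hc1 (congrArg Subtype.val h))
        (Subtype.ext (by show (u * c * u⁻¹) ^ 2 = 1; rw [conj_pow, hc2]; simp))
        (fun h => hc1 (by
          have h2 : u * c * u⁻¹ = 1 := congrArg Subtype.val h
          rwa [conj_eq_one_iff] at h2))
      exact (congrArg Subtype.val h1).symm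
    have hwz : w = z ^ n * c := by rw [hc, mul_inv_cancel_left]
    rw [hwz]
    calc u * (z ^ n * c) * u⁻¹ = (u * z ^ n * u⁻¹) * (u * c * u⁻¹) := by simp [mul_assoc]
      _ = z ^ n * c := by
        rw [huc, hz, ((Commute.refl u).pow_right 2 |>.zpow_right n).eq, mul_inv_cancel_right]

/-- The forms of a 2-group with a self-centralizing subgroup of order 4. -/
theorem forms_of_self_centralizing (hX : IsPGroup 2 X) (h8 : 8 ≤ Nat.card X) {A : Subgroup X}
    (hA : Nat.card A = 4) (hC : centralizer (A : Set X) = A) :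
    (∃ k : ℕ, Nonempty (X ≃* DihedralGroup (2 ^ (k + 2)))) ∨ Cfsg.IsQuasiDihedral X ∨
      (∃ k : ℕ, Nonempty (X ≃* QuaternionGroup (2 ^ (k + 1)))) := by
  haveI : Fact (Nat.Prime 2) := ⟨Nat.prime_two⟩
  obtain ⟨n, hn⟩ := IsPGroup.iff_card.1 hX
  have hn3 : 3 ≤ n := by
    by_contra hcon
    rw [hn] at h8
    have : 2 ^ n ≤ 2 ^ 2 := Nat.pow_le_pow_right (by norm_num) (by omega)
    omega
  have hc := CfsgLib.PGroup.MaxClass.class_of_self_centralizing n X hn A hA hC
  have hk := CfsgLib.PGroup.MaxClass.klein_of_class n hn3 hn hc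
  rcases Cfsg.Agent.S4399.result hX hk.card_four (fun x => by
      rw [pow_two]; exact hk.mul_self x) with h | h | ⟨k, hcard, a, b, ha, hb, hab⟩ | h
  · omega
  · exact Or.inl h
  · refine Or.inr (Or.inl ⟨k + 3, by omega, hcard, a, b, ha, hb, ?_⟩)
    rwa [show k + 3 - 1 = k + 2 by omega]
  · exact Or.inr (Or.inr h)

theorem q8_conj : ∀ j k : QuaternionGroup 2, j * j ≠ 1 → k * k ≠ 1 → j ≠ k → j ≠ k⁻¹ →
    j * k * j⁻¹ = k⁻¹ ∧ ∀ y, ∃ a b : Fin 4, y = j ^ (a : ℕ) * k ^ (b : ℕ) := by decide +kernel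

theorem q8_cent : ∀ j y : QuaternionGroup 2, j * j ≠ 1 → j * y = y * j →
    ∃ a : Fin 4, y = j ^ (a : ℕ) := by decide +kernel

theorem q8_basis : ∃ a b : QuaternionGroup 2, a * a ≠ 1 ∧ b * b ≠ 1 ∧ (a * b) * (a * b) ≠ 1 ∧
    a * b * a⁻¹ * b⁻¹ = a * a ∧ b * b = a * a ∧ (a * b) * (a * b) = a * a ∧
    ∀ y, ∃ i j : Fin 4, y = a ^ (i : ℕ) * b ^ (j : ℕ) := by decide +kernel

/-- A quaternion subgroup containing its centralizer gives a self-centralizing subgroup of order 4. -/
theorem exists_self_centralizing_of_quaternion (hm : Cfsg.IsMetacyclic X)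
    {Y : Subgroup X} (e : Y ≃* QuaternionGroup 2) (hC : centralizer (Y : Set X) ≤ Y) :
    ∃ A : Subgroup X, Nat.card A = 4 ∧ centralizer (A : Set X) = A := by
  obtain ⟨M, hMn, hMc, hQc⟩ := hm
  obtain ⟨a, b, ha, hb, hab', hcomm, hb2, hab2, hgen⟩ := q8_basis
  let g : QuaternionGroup 2 →* X := Y.subtype.comp e.symm.toMonoidHom
  have hg : Function.Injective g := Subtype.val_injective.comp e.symm.injective
  have hgY : ∀ q, g q ∈ Y := fun q => (e.symm q).2
  let mk := QuotientGroup.mk' M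
  letI : CommGroup (X ⧸ M) := IsCyclic.commGroup
  have hz : mk (g (a * a)) = 1 := by
    rw [← hcomm]
    simp
  -- an element of order 4 inside `M`
  obtain ⟨k, hk4, hkM⟩ : ∃ k : QuaternionGroup 2, k * k ≠ 1 ∧ g k ∈ M := by
    have hsq : ∀ q, q * q = a * a → mk (g q) ^ 2 = 1 := fun q hq => by
      rw [pow_two, ← map_mul, ← map_mul, hq, hz]
    by_cases h1 : mk (g a) = 1
    · exact ⟨a, ha, (QuotientGroup.eq_one_iff _).1 h1⟩
    by_cases h2 : mk (g b) = 1
    · exact ⟨b, hb, (QuotientGroup.eq_one_iff _).1 h2⟩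
    refine ⟨a * b, hab', (QuotientGroup.eq_one_iff _).1 ?_⟩
    have h3 := eq_of_sq_eq_one (hsq a rfl) h1 (hsq b hb2) h2
    show mk (g (a * b)) = 1
    rw [map_mul, map_mul, h3, ← pow_two]
    exact hsq b hb2
  have hord : ∀ q : QuaternionGroup 2, q * q ≠ 1 → orderOf (g q) = 4 := by
    intro q hq
    rw [orderOf_injective g hg]
    have h4 : q ^ (2 ^ (1 + 1)) = 1 := by revert q; decide +kernel
    exact orderOf_eq_prime_pow (p := 2) (n := 1) (fun h => hq (by rwa [pow_one, pow_two] at h)) h4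
  -- an element of order 4 outside
  obtain ⟨j, hj4, hjM⟩ : ∃ j : QuaternionGroup 2, j * j ≠ 1 ∧ g j ∉ M := by
    by_contra hcon
    push Not at hcon
    have h1 := hcon a ha
    have h2 := hcon b hb
    have h3 : g a * g b = g b * g a := by
      letI : CommGroup M := IsCyclic.commGroup
      exact congrArg Subtype.val (mul_comm (⟨g a, h1⟩ : M) ⟨g b, h2⟩)
    have h4 : a * b = b * a := hg (by rw [map_mul, map_mul, h3])
    refine ha ?_
    rw [← hcomm, h4]
    simp
  obtain ⟨hinv, hjk⟩ := q8_conj j k hj4 hk4 (fun h => hjM (h ▸ hkM))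
    (fun h => hjM (by rw [h, map_inv]; exact inv_mem hkM))
  refine ⟨zpowers (g j), by rw [Nat.card_zpowers, hord j hj4], le_antisymm ?_ ?_⟩
  · intro d hd
    have hdj : g j * d = d * g j := mem_centralizer_iff.1 hd _ (mem_zpowers _)
    -- `d` maps `g k` to itself or its inverse
    have hconj : d * g k * d⁻¹ ∈ M := hMn.conj_mem _ hkM d
    have hmem : d * g k * d⁻¹ = g k ∨ d * g k * d⁻¹ = (g k)⁻¹ := by
      have hle : zpowers (⟨_, hconj⟩ : M) ≤ zpowers (⟨g k, hkM⟩ : M) := le_of_card_dvd_cyclic (by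
        rw [Nat.card_zpowers, Nat.card_zpowers, ← orderOf_coe, ← orderOf_coe]
        show orderOf (d * g k * d⁻¹) ∣ orderOf (g k)
        rw [show d * g k * d⁻¹ = MulAut.conj d (g k) from rfl,
          MulEquiv.orderOf_eq])
      obtain ⟨n, hn⟩ := mem_zpowers_iff.1 (hle (mem_zpowers _))
      have hn' : g k ^ n = d * g k * d⁻¹ := congrArg Subtype.val hn
      have h4 : (g k : X) ^ (4 : ℕ) = 1 := by rw [← hord k hk4, pow_orderOf_eq_one]
      have hodd : Odd n := by
        rcases Int.even_or_odd n with ⟨m, hm⟩ | h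
        · exfalso
          have h5 : (d * g k * d⁻¹) ^ 2 = 1 := by
            rw [← hn', ← zpow_ofNat, ← zpow_mul, show n * 2 = (4 : ℕ) * m by omega, zpow_mul,
              zpow_natCast, h4, one_zpow]
          rw [conj_pow, conj_eq_one_iff] at h5
          have h6 := orderOf_dvd_of_pow_eq_one h5
          rw [hord k hk4] at h6
          omega
        · exact h
      obtain ⟨m, hm⟩ := hodd
      rcases Int.even_or_odd m with ⟨r, hr⟩ | ⟨r, hr⟩
      · left
        rw [← hn', show n = (4 : ℕ) * r + 1 by omega, zpow_add, zpow_mul, zpow_natCast, h4,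
          one_zpow, one_mul, zpow_one]
      · right
        rw [← hn', show n = (4 : ℕ) * (r + 1) + (-1) by omega, zpow_add, zpow_mul, zpow_natCast, h4,
          one_zpow, one_mul, zpow_neg_one]
    -- centralize `Y` with `d` or `j⁻¹ d`
    have key : ∀ c : X, c * g j = g j * c → c * g k = g k * c → c ∈ centralizer (Y : Set X) := by
      intro c hcj hck
      rw [mem_centralizer_iff]
      intro y hy
      obtain ⟨i, i', hii⟩ := hjk (e ⟨y, hy⟩)
      have hy' : y = g j ^ (i : ℕ) * g k ^ (i' : ℕ) := by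
        rw [← map_pow, ← map_pow, ← map_mul, ← hii]
        simp [g]
      rw [hy']
      exact ((show Commute c (g j) from hcj).pow_right _ |>.mul_right
        ((show Commute c (g k) from hck).pow_right _)).eq.symm
    have hdY : d ∈ Y := by
      rcases hmem with h | h
      · exact hC (key d hdj.symm (mul_inv_eq_iff_eq_mul.1 h))
      · have h1 : g j * g k * (g j)⁻¹ = (g k)⁻¹ := by
          rw [← map_inv, ← map_mul, ← map_mul, hinv, map_inv]
        have h2 := hC (key ((g j)⁻¹ * d) (by rw [mul_assoc, ← hdj, inv_mul_cancel_left,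
            mul_inv_cancel_left]) (by
          have h3 : (g j)⁻¹ * (g k)⁻¹ * g j = g k := by rw [← h1]; simp [mul_assoc]
          have h4 : d * g k = (g k)⁻¹ * d := mul_inv_eq_iff_eq_mul.1 h
          rw [mul_assoc, h4, ← mul_assoc, ← mul_assoc]
          congr 1
          rw [← mul_inv_eq_iff_eq_mul, inv_inv, h3]))
        simpa using Y.mul_mem (hgY j) h2
    have hd' : g (e ⟨d, hdY⟩) = d := by simp [g]
    obtain ⟨i, hi⟩ := q8_cent j (e ⟨d, hdY⟩) hj4 (hg (by rw [map_mul, map_mul, hd', hdj]))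
    rw [← hd', hi, map_pow]
    exact pow_mem (mem_zpowers _) _
  · intro x hx
    rw [mem_centralizer_iff]
    intro y hy
    obtain ⟨m, rfl⟩ := mem_zpowers_iff.1 hx
    obtain ⟨n, rfl⟩ := mem_zpowers_iff.1 hy
    rw [← zpow_add, ← zpow_add, add_comm]

end CfsgLib.FusionMetacyclic
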