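import Cfsg.Agent.Lib.FusionMetacyclic.Two

/-!
# Systems with `S` normal
-/

set_option autoImplicit false

namespace CfsgLib.FusionMetacyclic

open Cfsg Cfsg.FusionSystem CfsgLib.Fusion

universe u

variable {Ω : Type u} [Group Ω] {S : Subgroup Ω} {F : Cfsg.FusionSystem S} {p : ℕ}

theorem stronglyClosed_top (F : Cfsg.FusionSystem S) : F.StronglyClosed S :=
  ⟨le_rfl, fun _ _ _ hφ x => map_mem hφ x⟩

/-- If `S` is normal and `Aut_F(S)` is a `p`-group, the system is inner. -/
theorem eq_inner_of_isNormal_top [Finite S] [Fact p.Prime] (hS : IsPGroup p S)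
    (hF : F.IsSaturated p) (hN : F.IsNormal S) (h : IsPGroup p (F.autGroup S)) :
    F = innerFusionSystem S := by
  refine eq_inner_of_isPGroup hS hF fun P hPS => ?_
  intro α
  obtain ⟨ψ, hψ, hag, hSS⟩ := hN.2 P _ ((mem_autGroup_iff_hom hPS).1 α.2)
  have hle : S ≤ P ⊔ S := le_sup_right
  obtain ⟨β, hβ, hb⟩ := exists_aut (restrict_mem hψ hle) (by rw [range_comp_inclusion]; exact hSS)
  obtain ⟨k, hk⟩ := h ⟨β, hβ⟩
  refine ⟨k, Subtype.ext (MulEquiv.ext fun x => ?_)⟩
  have hn : ∀ (n : ℕ) (x : P), (((β ^ n) ⟨x, hPS x.2⟩ : S) : Ω) = ((((α : MulAut P) ^ n) x : P) : Ω) := by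
    intro n
    induction n with
    | zero => intro x; rfl
    | succ n ih =>
      intro x
      rw [pow_succ, pow_succ, MulAut.mul_apply, MulAut.mul_apply, ← ih]
      refine congrArg (fun y => (((β ^ n) y : S) : Ω)) (Subtype.ext ?_)
      exact ((hb _).trans (congrArg ψ (Subtype.ext rfl))).trans (hag x)
  have h1 : β ^ p ^ k = 1 := congrArg Subtype.val hk
  refine Subtype.ext ((hn (p ^ k) x).symm.trans ?_)
  rw [h1]
  rfl

end CfsgLib.FusionMetacyclic
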