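import Cfsg.Agent.Lib.FusionMetacyclic.Odd
import Cfsg.Agent.Lib.PGroup.OmegaRankTwo

/-!
# Strongly closed metacyclic subgroups are normal, `p` odd
-/

set_option autoImplicit false

namespace CfsgLib.FusionMetacyclic

open Cfsg Cfsg.FusionSystem CfsgLib.Fusion

universe u

variable {Ω : Type u} [Group Ω] {S : Subgroup Ω} {F : Cfsg.FusionSystem S}
variable {P : Subgroup Ω} {p : ℕ}

/-- A strongly closed subgroup lying in every essential subgroup is normal. -/
theorem isNormal_of_le_essential [Finite S] [Fact p.Prime] (hS : IsPGroup p S)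
    (hF : F.IsSaturated p) (hP : F.StronglyClosed P)
    (h : ∀ E, F.IsEssential p E → P ≤ E) : F.IsNormal P := by
  refine (isNormal_iff_essential hS hF).2 fun E hE => ?_
  rcases hE with rfl | hE
  · exact ⟨hP.1, fun α hα => stronglyClosed_aut_map_eq hP le_rfl hα⟩
  · exact ⟨h E hE, fun α hα => stronglyClosed_aut_map_eq hP hE.1.1 hα⟩

/-- Elements of order dividing `p` of a metacyclic group, `p` odd. -/
theorem exists_small_part [Finite P] [Fact p.Prime] (hp : p ≠ 2) (hP : IsPGroup p P)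
    (hm : Cfsg.IsMetacyclic P) :
    ∃ K : Subgroup Ω, Nat.card K ≤ p ^ 2 ∧ K ≤ P ∧ (∀ x ∈ P, x ^ p = 1 → x ∈ K) ∧
      ∀ x ∈ K, ∀ y ∈ K, x * y = y * x := by
  have hp' : p.Prime := Fact.out
  obtain ⟨K, hK, hKm, hKc⟩ : ∃ K : Subgroup P, Nat.card K ≤ p ^ 2 ∧
      (∀ x : P, x ^ p = 1 → x ∈ K) ∧ IsMulCommutative K := by
    by_cases hc : IsCyclic P
    · letI : CommGroup P := IsCyclic.commGroup
      refine ⟨(powMonoidHom p : P →* P).ker, ?_, fun x hx => hx, ?_⟩
      · classical
        letI := Fintype.ofFinite P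
        have h1 := IsCyclic.card_pow_eq_one_le (α := P) hp'.pos
        refine le_trans ?_ (h1.trans (by nlinarith [hp'.two_le]))
        rw [Nat.card_eq_fintype_card, Fintype.card_subtype]
        refine le_of_eq (congrArg Finset.card ?_)
        ext x
        simp [MonoidHom.mem_ker]
      · exact ⟨⟨fun a b => Subtype.ext (mul_comm (a : P) b)⟩⟩
    · obtain ⟨K, hK, hKm⟩ := CfsgLib.PGroup.metacyclic_omegaOne hp hP hm hc
      exact ⟨K, hK.le, fun x hx => (hKm x).2 hx, IsPGroup.isMulCommutative_of_card_eq_prime_sq hK⟩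
  refine ⟨K.map P.subtype, ?_, Subgroup.map_subtype_le K, ?_, ?_⟩
  · rwa [Subgroup.card_map_of_injective (Subgroup.subtype_injective P)]
  · exact fun x hx hxp => ⟨⟨x, hx⟩, hKm _ (Subtype.ext hxp), rfl⟩
  · rintro _ ⟨a, ha, rfl⟩ _ ⟨b, hb, rfl⟩
    exact congrArg Subtype.val (congrArg Subtype.val (hKc.is_comm.comm ⟨a, ha⟩ ⟨b, hb⟩) :)

/-- For odd `p` a strongly closed metacyclic subgroup is normal. -/
theorem isNormal_odd [Finite S] [Fact p.Prime] (hp : p ≠ 2) (hS : IsPGroup p S)
    (hF : F.IsSaturated p) (hP : F.StronglyClosed P) (hm : Cfsg.IsMetacyclic P) : F.IsNormal P := by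
  have : Finite P := finite_of_le hP.1
  obtain ⟨K, hK, hKP, hKm, hKc⟩ := exists_small_part hp (hS.to_le hP.1) hm
  exact isNormal_of_le_essential hS hF hP fun E hE =>
    le_essential_odd hp hS hF hP hE K hK (hKP.trans hP.1) hKm hKc

end CfsgLib.FusionMetacyclic
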