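import Cfsg.Agent.Lib.FusionAut.Coprime
import Cfsg.Agent.Lib.FusionAut.AbelianCoprime
import Cfsg.Agent.Lib.Fusion.SmallFix
import Cfsg.Agent.Lib.PGroup.OmegaRankTwo
import Cfsg.Agent.Lib.FusionMetacyclic.TwoGroups
import Mathlib.GroupTheory.FiniteAbelian.Basic
import Mathlib.GroupTheory.Perm.Cycle.Type

/-!
# Coprime automorphisms of metacyclic `p`-groups, `p` odd
-/

set_option autoImplicit false
set_option linter.style.haveILetI false

namespace CfsgLib.FusionMetacyclic

open CfsgLib.FusionAut
open scoped commutatorElement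

variable {p : ℕ} [Fact p.Prime] {X : Type*} [Group X] [Finite X]

/-- Coprime automorphism groups leaving a subgroup of order `p` invariant. -/
theorem coprimeAut_of_line (hp : p ≠ 2) (hX : IsPGroup p X) {K : Subgroup X}
    (hK : Nat.card K = p ^ 2) (hKm : ∀ x : X, x ∈ K ↔ x ^ p = 1) {z : X} (hz : z ∈ K) (hz1 : z ≠ 1)
    {H : Subgroup (MulAut X)} (hH : (Nat.card H).Coprime p)
    (hline : ∀ h ∈ H, h z ∈ Subgroup.zpowers z) :
    IsMulCommutative H ∧ ∀ h ∈ H, h ^ (p - 1) = 1 := by
  classical
  have hp' : p.Prime := Fact.out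
  haveI : Finite (MulAut X) := Finite.of_injective (fun e : MulAut X => (e : X → X))
    DFunLike.coe_injective
  haveI hKc : IsMulCommutative K := IsPGroup.isMulCommutative_of_card_eq_prime_sq hK
  have hmem : ∀ h : MulAut X, ∀ x ∈ K, h x ∈ K := fun h x hx => by
    rw [hKm] at hx ⊢
    rw [← map_pow, hx, map_one]
  let res : H →* MulAut K :=
    { toFun := fun h =>
        { toFun := fun x => ⟨(h : MulAut X) x, hmem _ _ x.2⟩
          invFun := fun x => ⟨(h : MulAut X).symm x, hmem _ _ x.2⟩
          left_inv := fun x => Subtype.ext ((h : MulAut X).symm_apply_apply x)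
          right_inv := fun x => Subtype.ext ((h : MulAut X).apply_symm_apply x)
          map_mul' := fun a b => Subtype.ext (map_mul (h : MulAut X) (a : X) b) }
      map_one' := MulEquiv.ext fun x => Subtype.ext rfl
      map_mul' := fun a b => MulEquiv.ext fun x => Subtype.ext rfl }
  have hres : Function.Injective res := by
    refine (injective_iff_map_eq_one res).2 fun h hh => Subtype.ext (MulEquiv.ext fun x => ?_)
    have hord : (orderOf (h : MulAut X)).Coprime p :=
      hH.coprime_dvd_left (by rw [Subgroup.orderOf_coe]; exact orderOf_dvd_natCard h)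
    refine CfsgLib.Fusion.SmallFix.fix_of_fix_small hX _ hord ⊤ (fun _ _ => Subgroup.mem_top _)
      (fun y _ hy => ?_) x (Subgroup.mem_top x)
    rcases hy with hy | ⟨h2, -⟩
    · exact congrArg Subtype.val (DFunLike.congr_fun hh (⟨y, (hKm y).2 hy⟩ : K))
    · exact absurd h2 hp
  obtain ⟨w, hw, hwz⟩ : ∃ w ∈ K, w ∉ Subgroup.zpowers z := by
    by_contra hcon
    push Not at hcon
    have h1 : Nat.card K ≤ Nat.card (Subgroup.zpowers z) :=
      Subgroup.card_le_of_le hcon
    rw [hK, Nat.card_zpowers, orderOf_eq_prime ((hKm z).1 hz) hz1] at h1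
    nlinarith [hp'.two_le]
  let z' : K := ⟨z, hz⟩
  let w' : K := ⟨w, hw⟩
  have hKp : IsPGroup p K := hX.to_subgroup K
  have htop : (⊤ : Subgroup K) = Subgroup.zpowers z' ⊔ Subgroup.zpowers w' := by
    symm
    have hlt : Subgroup.zpowers z' < Subgroup.zpowers z' ⊔ Subgroup.zpowers w' := by
      refine lt_of_le_of_ne le_sup_left fun h => hwz ?_
      obtain ⟨n, hn⟩ := h.ge (Subgroup.mem_sup_right (Subgroup.mem_zpowers w'))
      exact ⟨n, congrArg Subtype.val hn⟩
    have hdvd := Subgroup.card_subgroup_dvd_card (Subgroup.zpowers z' ⊔ Subgroup.zpowers w')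
    rw [hK, Nat.dvd_prime_pow hp'] at hdvd
    obtain ⟨k, hk, hk'⟩ := hdvd
    apply Subgroup.eq_top_of_card_eq
    rw [hK, hk']
    have hz'o : Nat.card (Subgroup.zpowers z') = p := by
      rw [Nat.card_zpowers]
      exact orderOf_eq_prime (Subtype.ext ((hKm z).1 hz)) (fun h => hz1 (congrArg Subtype.val h))
    have h1 : p < p ^ k := by
      rw [← hk']
      refine hz'o.symm.trans_lt ?_
      exact lt_of_le_of_ne (Subgroup.card_le_of_le hlt.le)
        fun h => hlt.ne (Subgroup.eq_of_le_of_card_ge hlt.le h.ge)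
    rcases Nat.lt_or_ge k 2 with h2 | h2
    · interval_cases k <;> simp at h1
      · have := hp'.two_le; omega
    · rw [show k = 2 by omega]
  have hHr : (Nat.card res.range).Coprime p := hH.coprime_dvd_left (Subgroup.card_range_dvd res)
  have hz'inv : ∀ h ∈ res.range, ∀ d ∈ Subgroup.zpowers z', h d ∈ Subgroup.zpowers z' := by
    rintro _ ⟨h, rfl⟩ d ⟨n, rfl⟩
    rw [map_zpow]
    refine zpow_mem ?_ n
    obtain ⟨m, hm⟩ := hline _ h.2
    exact ⟨m, Subtype.ext (by rw [Subgroup.coe_zpow]; exact hm)⟩
  obtain ⟨hab, hexp⟩ := abelian_exponent_of_chain hKp hHr (m := 2)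
    ![⊥, Subgroup.zpowers z', ⊤] rfl rfl
    (fun i => ⟨fun a ha g => by
      have : g * a * g⁻¹ = a := by rw [hKc.is_comm.comm g a]; group
      rwa [this]⟩)
    (fun h hh i => by
      fin_cases i
      · intro d hd
        simp at hd ⊢
        simp [hd]
      · exact hz'inv h hh
      · intro d _
        simp)
    (fun i => by
      fin_cases i
      · exact ⟨z', by simp⟩
      · exact ⟨w', htop⟩)
  refine ⟨⟨⟨fun a b => hres ?_⟩⟩, fun h hh => ?_⟩
  · rw [map_mul, map_mul]
    exact congrArg Subtype.val (hab.is_comm.comm (⟨_, a, rfl⟩ : res.range) ⟨_, b, rfl⟩)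
  · have h1 : (⟨h, hh⟩ : H) ^ (p - 1) = 1 := hres (by
      rw [map_pow, map_one]
      exact hexp _ ⟨_, rfl⟩)
    exact congrArg Subtype.val h1

/-- Coprime automorphism groups of a metacyclic group that is not homocyclic, `p` odd. -/
theorem coprimeAut_odd (hp : p ≠ 2) (hX : IsPGroup p X) (hm : Cfsg.IsMetacyclic X)
    (hh : ¬ ∃ n : ℕ, 0 < n ∧ Nonempty (X ≃* Multiplicative (ZMod (p ^ n)) × Multiplicative (ZMod (p ^ n))))
    {H : Subgroup (MulAut X)} (hH : (Nat.card H).Coprime p) :
    IsMulCommutative H ∧ ∀ h ∈ H, h ^ (p - 1) = 1 := by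
  classical
  have hp' : p.Prime := Fact.out
  by_cases hc : IsCyclic X
  · obtain ⟨g, hg⟩ := hc.exists_zpow_surjective
    have htop : (⊤ : Subgroup X) = ⊥ ⊔ Subgroup.zpowers g := by
      rw [bot_sup_eq]
      exact ((Subgroup.eq_top_iff' _).2 fun x => hg x).symm
    exact abelian_exponent_of_chain hX hH (m := 1) ![⊥, ⊤] rfl rfl
      (fun i => by fin_cases i <;> simp <;> infer_instance)
      (fun h _ i => by fin_cases i <;> simp)
      (fun i => by fin_cases i; exact ⟨g, htop⟩)
  obtain ⟨K, hK, hKm⟩ := CfsgLib.PGroup.metacyclic_omegaOne hp hX hm hc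
  by_cases hab : ∀ a b : X, a * b = b * a
  · letI : CommGroup X := { ‹Group X› with mul_comm := hab }
    obtain ⟨ι, hι, n, hn, ⟨e⟩⟩ := CommGroup.equiv_prod_multiplicative_zmod_of_finite X
    haveI := hι
    by_cases hinj : Function.Injective n
    · exact abelian_exponent_of_injective hX e hinj hH
    exfalso
    obtain ⟨i, j, hij, hne⟩ := Function.not_injective_iff.1 hinj
    obtain ⟨N, hN⟩ := IsPGroup.iff_card.1 hX
    have hcard : Nat.card X = ∏ k, n k := by
      rw [Nat.card_congr e.toEquiv, Nat.card_pi]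
      refine Finset.prod_congr rfl fun k _ => ?_
      rw [Nat.card_congr Multiplicative.toAdd, Nat.card_zmod]
    have hpow : ∀ k, ∃ m, 0 < m ∧ n k = p ^ m := fun k => by
      have h1 : n k ∣ p ^ N := hN ▸ hcard ▸ Finset.dvd_prod_of_mem n (Finset.mem_univ k)
      obtain ⟨m, -, hm'⟩ := (Nat.dvd_prime_pow hp').1 h1
      refine ⟨m, Nat.pos_of_ne_zero ?_, hm'⟩
      rintro rfl
      simpa [hm'] using hn k
    have hsmall : Fintype.card ι ≤ 2 := by
      have hex : ∀ k, ∃ y : Multiplicative (ZMod (n k)), orderOf y = p := fun k => by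
        obtain ⟨m, hm0, hm'⟩ := hpow k
        haveI : NeZero (n k) := ⟨by have := hn k; omega⟩
        refine exists_prime_orderOf_dvd_card' p ?_
        rw [Nat.card_congr Multiplicative.toAdd, Nat.card_zmod, hm']
        exact dvd_pow_self p hm0.ne'
      choose y hy using hex
      let f : ((k : ι) → Subgroup.zpowers (y k)) → K := fun v =>
        ⟨e.symm fun k => (v k : Multiplicative (ZMod (n k))), by
          rw [hKm, ← map_pow, ← map_one e.symm]
          refine congrArg e.symm (funext fun k => ?_)
          obtain ⟨m, hm'⟩ := (v k).2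
          have h0 : y k ^ p = 1 := hy k ▸ pow_orderOf_eq_one (y k)
          show ((v k : Multiplicative (ZMod (n k)))) ^ p = 1
          rw [← hm', ← zpow_natCast, ← zpow_mul, mul_comm, zpow_mul, zpow_natCast, h0, one_zpow]⟩
      have hf : Function.Injective f := fun u v huv => funext fun k => Subtype.ext
        (congrFun (e.symm.injective (congrArg Subtype.val huv)) k)
      have h1 := Nat.card_le_card_of_injective f hf
      rw [hK, Nat.card_pi, Finset.prod_congr rfl (fun k _ => show
        Nat.card (Subgroup.zpowers (y k)) = p by rw [Nat.card_zpowers, hy]), Finset.prod_const,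
        Finset.card_univ] at h1
      exact (Nat.pow_le_pow_iff_right hp'.one_lt).1 h1
    have huniv : ∀ k : ι, k = i ∨ k = j := by
      intro k
      by_contra hk
      push Not at hk
      have := Finset.card_le_univ ({i, j, k} : Finset ι)
      rw [Finset.card_eq_three.2 ⟨i, j, k, hne, hk.1.symm, hk.2.symm, rfl⟩] at this
      omega
    let π : ((k : ι) → Multiplicative (ZMod (n k))) →*
        Multiplicative (ZMod (n i)) × Multiplicative (ZMod (n j)) :=
      (Pi.evalMonoidHom (fun k => Multiplicative (ZMod (n k))) i).prod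
        (Pi.evalMonoidHom (fun k => Multiplicative (ZMod (n k))) j)
    have hπ : Function.Bijective π := by
      refine ⟨fun u v huv => funext fun k => ?_, fun w => ?_⟩
      · rcases huniv k with rfl | rfl
        · exact congrArg Prod.fst huv
        · exact congrArg Prod.snd huv
      · refine ⟨Pi.mulSingle i w.1 * Pi.mulSingle j w.2, Prod.ext ?_ ?_⟩
        · simp [π, Pi.mulSingle_eq_of_ne hne]
        · simp [π, Pi.mulSingle_eq_of_ne hne.symm]
    have hmain : Nonempty (X ≃* Multiplicative (ZMod (n i)) × Multiplicative (ZMod (n j))) :=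
      ⟨e.trans (MulEquiv.ofBijective π hπ)⟩
    obtain ⟨m, hm0, hm'⟩ := hpow i
    rw [← hij, hm'] at hmain
    exact hh ⟨m, hm0, hmain⟩
  · push Not at hab
    obtain ⟨a, b, hab⟩ := hab
    obtain ⟨N, hN, hNc, hQc⟩ := hm
    haveI := hN
    haveI := hNc
    have hle : commutator X ≤ N := by
      letI : CommGroup (X ⧸ N) := @IsCyclic.commGroup _ _ hQc
      intro x hx
      have h2 : commutator X ≤ (QuotientGroup.mk' N).ker :=
        Abelianization.commutator_subset_ker (QuotientGroup.mk' N)
      rw [QuotientGroup.ker_mk'] at h2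
      exact h2 hx
    haveI : IsCyclic (commutator X) :=
      isCyclic_of_injective (Subgroup.inclusion hle) (Subgroup.inclusion_injective hle)
    haveI : Nontrivial (commutator X) := by
      rw [Subgroup.nontrivial_iff_ne_bot]
      intro h
      refine hab (commutatorElement_eq_one_iff_mul_comm.1 ?_)
      have : ⁅a, b⁆ ∈ commutator X :=
        Subgroup.commutator_mem_commutator (Subgroup.mem_top a) (Subgroup.mem_top b)
      rwa [h, Subgroup.mem_bot] at this
    obtain ⟨z, hz⟩ := exists_prime_orderOf_dvd_card' (G := commutator X) p (by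
      obtain ⟨m, hm'⟩ := IsPGroup.iff_card.1 (hX.to_subgroup (commutator X))
      rw [hm']
      refine dvd_pow_self p fun h0 => ?_
      subst h0
      have := Finite.one_lt_card (α := commutator X)
      simp [hm'] at this)
    have hzp : (z : X) ^ p = 1 := by
      rw [← hz, ← Subgroup.coe_pow, pow_orderOf_eq_one, OneMemClass.coe_one]
    have hz1 : (z : X) ≠ 1 := fun h => by
      have : z = 1 := Subtype.ext h
      rw [this, orderOf_one] at hz
      exact hp'.one_lt.ne' hz.symm
    refine coprimeAut_of_line hp hX hK hKm ((hKm _).2 hzp) hz1 hH fun h _ => ?_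
    have hhz : h (z : X) ∈ commutator X :=
      (Subgroup.Characteristic.fixed (H := commutator X) inferInstance h).ge z.2
    set w : commutator X := ⟨h z, hhz⟩
    have hwo : orderOf w = p := by
      rw [← Subgroup.orderOf_coe]
      show orderOf (h (z : X)) = p
      rw [MulEquiv.orderOf_eq, Subgroup.orderOf_coe, hz]
    have hmem : w ∈ Subgroup.zpowers z :=
      le_of_card_dvd_cyclic (H := Subgroup.zpowers w) (K := Subgroup.zpowers z)
        (by rw [Nat.card_zpowers, Nat.card_zpowers, hwo, hz]) (Subgroup.mem_zpowers w)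
    obtain ⟨k, hk⟩ := hmem
    exact ⟨k, by simpa [w] using congrArg Subtype.val hk⟩

end CfsgLib.FusionMetacyclic
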