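import Cfsg.Agent.Lib.Fusion.Normal
import Cfsg.Agent.Lib.Fusion.Alperin
import Cfsg.Agent.Lib.Solvable.Core
import Cfsg.Agent.Lib.Fusion.Stability

/-!
# Automorphisms of an essential subgroup moving elements inside a strongly closed subgroup
-/

set_option autoImplicit false

namespace CfsgLib.FusionMetacyclic

open Cfsg Cfsg.FusionSystem CfsgLib.Fusion

variable {Ω : Type*} [Group Ω] {S : Subgroup Ω} {F : Cfsg.FusionSystem S}
variable {E P : Subgroup Ω} {p : ℕ}

/-- Automorphisms of `E` in the system acting trivially on the cosets of `E ∩ P`. -/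
def layer (F : Cfsg.FusionSystem S) (E P : Subgroup Ω) : Subgroup (MulAut E) where
  carrier := {α | α ∈ F.autGroup E ∧ ∀ e : E, ((e⁻¹ * α e : E) : Ω) ∈ P}
  one_mem' := ⟨one_mem _, fun e => by
    show ((e⁻¹ * e : E) : Ω) ∈ P
    rw [inv_mul_cancel]; exact P.one_mem⟩
  mul_mem' := by
    rintro α β ⟨hα, hα'⟩ ⟨hβ, hβ'⟩
    refine ⟨mul_mem hα hβ, fun e => ?_⟩
    have h := P.mul_mem (hβ' e) (hα' (β e))
    simpa [mul_assoc] using h
  inv_mem' := by
    rintro α ⟨hα, hα'⟩
    refine ⟨inv_mem hα, fun e => ?_⟩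
    obtain ⟨f, rfl⟩ := α.surjective e
    have h := P.inv_mem (hα' f)
    simpa [mul_inv_rev] using h

theorem layer_le : layer F E P ≤ F.autGroup E := fun _ h => h.1

theorem conjAut_mem_layer (hP : F.StronglyClosed P) (hES : E ≤ S) {u : Ω} (huP : u ∈ P)
    (hu : u ∈ Subgroup.normalizer (E : Set Ω)) : conjAut E u hu ∈ layer F E P := by
  refine ⟨autInducedBy_le_autGroup F hES (conjAut_mem_autInducedBy (hP.1 huP) hu), fun e => ?_⟩
  have h1 := conj_mem_of_mem_normalizer (stronglyClosed_le_normalizer hP (S.inv_mem (hES e.2))) huP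
  have h2 := P.mul_mem h1 (P.inv_mem huP)
  simpa [mul_assoc, conjAut_apply] using h2

theorem conj_mem_layer (hP : F.StronglyClosed P) (hES : E ≤ S) {α γ : MulAut E}
    (hα : α ∈ layer F E P) (hγ : γ ∈ F.autGroup E) : γ * α * γ⁻¹ ∈ layer F E P := by
  refine ⟨mul_mem (mul_mem hγ hα.1) (inv_mem hγ), fun e => ?_⟩
  obtain ⟨f, rfl⟩ := γ.surjective e
  have h := stronglyClosed_apply_mem hP ((mem_autGroup_iff_hom hES).1 hγ) (f⁻¹ * α f) (hα.2 f)
  simpa [MulAut.mul_apply] using h

/-- A normal `p`-subgroup of the layer consists of inner automorphisms. -/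
theorem le_inn [Finite S] (hP : F.StronglyClosed P) (hrad : F.IsRadical p E)
    (N : Subgroup (MulAut E)) (hN : N ≤ layer F E P)
    (hn : ∀ γ ∈ layer F E P, ∀ α ∈ N, γ * α * γ⁻¹ ∈ N) (hp : IsPGroup p N) :
    N ≤ Cfsg.Inn E := by
  have hES := hrad.1
  let K : Subgroup (F.autGroup E) := (layer F E P).subgroupOf (F.autGroup E)
  have hKn : K.Normal := ⟨fun k hk g => conj_mem_layer hP hES hk g.2⟩
  let N' : Subgroup (F.autGroup E) := N.subgroupOf (F.autGroup E)
  have h1 : N'.subgroupOf K ≤ pCore p K := by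
    refine CfsgLib.Solvable.le_pCore ⟨fun x hx g => hn _ g.2 _ hx⟩ ?_
    exact (hp.comap_subtype : IsPGroup p N').comap_subtype
  intro α hα
  have h2 : (⟨α, layer_le (hN hα)⟩ : F.autGroup E) ∈ pCore p (F.autGroup E) :=
    CfsgLib.Solvable.map_subtype_pCore_le (p := p) K
      ⟨⟨⟨α, layer_le (hN hα)⟩, hN hα⟩, h1 hα, rfl⟩
  rw [← hrad.2]
  exact ⟨_, h2, rfl⟩

theorem apply_layer_mem {α : MulAut E} (hα : α ∈ layer F E P) {y : E} (hy : y ∈ P.subgroupOf E) :
    α y ∈ P.subgroupOf E := by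
  have h := P.mul_mem hy (hα.2 y)
  rw [Subgroup.mem_subgroupOf]
  simpa using h

theorem apply_layer_mem_symm {α : MulAut E} (hα : α ∈ layer F E P) {y : E}
    (hy : y ∈ P.subgroupOf E) : α⁻¹ y ∈ P.subgroupOf E :=
  apply_layer_mem (inv_mem hα) hy

/-- Restriction to `E ∩ P`. -/
def res (F : Cfsg.FusionSystem S) (E P : Subgroup Ω) :
    layer F E P →* MulAut (P.subgroupOf E) where
  toFun α :=
    { toFun := fun y => ⟨(α : MulAut E) y, apply_layer_mem α.2 y.2⟩
      invFun := fun y => ⟨(α : MulAut E)⁻¹ y, apply_layer_mem_symm α.2 y.2⟩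
      left_inv := fun y => Subtype.ext (MulAut.inv_apply_self _ _ _)
      right_inv := fun y => Subtype.ext (MulAut.apply_inv_self _ _ _)
      map_mul' := fun a b => Subtype.ext (map_mul (α : MulAut E) _ _) }
  map_one' := MulEquiv.ext fun _ => Subtype.ext rfl
  map_mul' _ _ := MulEquiv.ext fun _ => Subtype.ext rfl

theorem res_apply (α : layer F E P) (y : P.subgroupOf E) :
    ((res F E P α y : P.subgroupOf E) : E) = (α : MulAut E) y := rfl

/-- Automorphisms in the layer fixing `E ∩ P` form a `p`-group. -/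
theorem isPGroup_ker_res [Finite S] [Fact p.Prime] (hS : IsPGroup p S) (hES : E ≤ S) :
    IsPGroup p (res F E P).ker := by
  have : Finite E := finite_of_le hES
  obtain ⟨k, hk⟩ := IsPGroup.iff_card.1 (hS.to_le hES)
  intro α
  refine ⟨k, Subtype.ext (Subtype.ext (MulEquiv.ext fun e => ?_))⟩
  set a : MulAut E := ((α : layer F E P) : MulAut E)
  have hfix : ∀ y : E, y ∈ P.subgroupOf E → a y = y := fun y hy =>
    congrArg Subtype.val (DFunLike.congr_fun α.2 (⟨y, hy⟩ : P.subgroupOf E))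
  have hd : e⁻¹ * a e ∈ P.subgroupOf E := (α : layer F E P).2.2 e
  have hn : ∀ n : ℕ, (a ^ n) e = e * (e⁻¹ * a e) ^ n := by
    intro n
    induction n with
    | zero => simp
    | succ n ih =>
      rw [pow_succ', MulAut.mul_apply, ih, map_mul, map_pow, hfix _ hd, pow_succ']
      simp [mul_assoc]
  show (a ^ p ^ k) e = e
  rw [hn, ← hk, pow_card_eq_one', mul_one]

/-- An element of `P` outside `E` normalizing `E`, of order `p` modulo `E`. -/
theorem exists_step [Finite S] [Fact p.Prime] (hS : IsPGroup p S) (hP : F.StronglyClosed P)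
    (hES : E ≤ S) (hPE : ¬ P ≤ E) :
    ∃ u ∈ P, u ∉ E ∧ u ∈ Subgroup.normalizer (E : Set Ω) ∧ u ^ p ∈ E := by
  classical
  obtain ⟨x, ⟨hxP, hxn⟩, hxE⟩ : ∃ x ∈ P ⊓ Subgroup.normalizer (E : Set Ω), x ∉ E := by
    by_contra hcon
    push Not at hcon
    exact hPE (le_of_normalizer_inf_le hS hES hP.1
      (fun g hg => stronglyClosed_le_normalizer hP hg) fun g hg hg' => hcon g ⟨hg, hg'⟩)
  obtain ⟨k, hk⟩ := hS ⟨x, hP.1 hxP⟩
  have hex : ∃ n, x ^ p ^ n ∈ E := ⟨k, by
    have := congrArg Subtype.val hk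
    simp only [SubgroupClass.coe_pow, OneMemClass.coe_one] at this
    rw [this]; exact E.one_mem⟩
  obtain ⟨n, hn⟩ : ∃ n, Nat.find hex = n + 1 := by
    rcases h : Nat.find hex with _ | n
    · have := Nat.find_spec hex
      rw [h, pow_zero, pow_one] at this
      exact absurd this hxE
    · exact ⟨n, rfl⟩
  refine ⟨x ^ p ^ n, P.pow_mem hxP _, Nat.find_min hex (by omega), pow_mem hxn _, ?_⟩
  have := Nat.find_spec hex
  rwa [hn, pow_succ, pow_mul] at this

/-- Conjugation by an element of `S` outside a centric `E` is not inner. -/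
theorem conjAut_not_inn (hE : F.IsCentric E) {u : Ω} (huS : u ∈ S) (huE : u ∉ E)
    (hu : u ∈ Subgroup.normalizer (E : Set Ω)) : conjAut E u hu ∉ Cfsg.Inn E := fun h =>
  huE (mem_of_conjAut_mem_inn (centralizerIn_le_of_isCentric hE) hE.1 huS hu h)

/-- The restriction of the layer to `E ∩ P` is not a `p`-group. -/
theorem res_not_isPGroup [Finite S] [Fact p.Prime] (hS : IsPGroup p S) (hP : F.StronglyClosed P)
    (hEc : F.IsCentric E) (hrad : F.IsRadical p E) (hPE : ¬ P ≤ E) :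
    ¬ IsPGroup p (MulAut (P.subgroupOf E)) := by
  intro h
  obtain ⟨u, huP, huE, hun, -⟩ := exists_step hS hP hEc.1 hPE
  refine conjAut_not_inn hEc (hP.1 huP) huE hun
    (le_inn hP hrad (layer F E P) le_rfl (fun γ hγ α hα => mul_mem (mul_mem hγ hα) (inv_mem hγ))
      ?_ (conjAut_mem_layer hP hEc.1 huP hun))
  have hk := isPGroup_ker_res (F := F) (E := E) (P := P) hS hEc.1
  have h1 := (h.to_subgroup ⊤).comap_of_ker_isPGroup (res F E P) hk
  rw [Subgroup.comap_top] at h1
  exact h1.of_equiv Subgroup.topEquiv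

end CfsgLib.FusionMetacyclic
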