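import Cfsg.Agent.Lib.Fusion.Realized
import Cfsg.Agent.Lib.FusionAut.Supersoluble
import Mathlib.GroupTheory.Sylow

/-!
# A criterion for the existence of a saturated system that is not supersoluble
-/

set_option autoImplicit false
set_option linter.style.haveILetI false

namespace CfsgLib.FusionMetacyclic

open Cfsg Cfsg.FusionSystem CfsgLib.Fusion CfsgLib.FusionAut

variable {Ω : Type*} [Group Ω] {S : Subgroup Ω}

/-- The system on `S` realized by an embedding into a group. -/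
def realizedSystem {G : Type*} [Group G] (ι : S →* G) (hι : Function.Injective ι) :
    Cfsg.FusionSystem S where
  Hom P := {φ | ∃ (hP : P ≤ S) (h : ∀ x : P, φ x ∈ S) (g : G),
    ∀ x : P, ι ⟨φ x, h x⟩ = g * ι ⟨x, hP x.2⟩ * g⁻¹}
  le_of_mem := fun ⟨hP, h, _⟩ => ⟨hP, h⟩
  injective_of_mem := by
    rintro P φ ⟨hP, h, g, hg⟩ a b hab
    have h1 : ι ⟨φ a, h a⟩ = ι ⟨φ b, h b⟩ := congrArg ι (Subtype.ext hab)
    rw [hg, hg] at h1
    have h2 := hι (mul_left_cancel (mul_right_cancel h1))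
    exact Subtype.ext (congrArg Subtype.val h2 :)
  conj_mem := by
    intro P g hP hg
    refine ⟨hP, fun x => S.mul_mem (S.mul_mem hg (hP x.2)) (S.inv_mem hg), ι ⟨g, hg⟩, fun x => ?_⟩
    rw [← map_inv, ← map_mul, ← map_mul]
    rfl
  comp_mem := by
    rintro P Q φ ψ ⟨hP, hφ, g, hg⟩ ⟨hQ, hψ, k, hk⟩ h
    refine ⟨hP, fun x => hψ _, k * g, fun x => ?_⟩
    show ι ⟨ψ (φ.codRestrict Q h x), hψ _⟩ = _
    rw [hk, show (⟨((φ.codRestrict Q h x : Q) : Ω), hQ (φ.codRestrict Q h x).2⟩ : S) =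
      ⟨φ x, hφ x⟩ from rfl, hg, mul_inv_rev]
    simp only [mul_assoc]
  inv_mem := by
    rintro P φ ⟨hP, hφ, g, hg⟩
    have hinj : Function.Injective φ := fun a b hab => by
      have h1 : ι ⟨φ a, hφ a⟩ = ι ⟨φ b, hφ b⟩ := congrArg ι (Subtype.ext hab)
      rw [hg, hg] at h1
      have h2 := hι (mul_left_cancel (mul_right_cancel h1))
      exact Subtype.ext (congrArg Subtype.val h2 :)
    let e : P ≃* φ.range := MonoidHom.ofInjective hinj
    have he : ∀ x : P, e.symm ⟨φ x, ⟨x, rfl⟩⟩ = x := fun x => e.symm_apply_apply x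
    refine ⟨P.subtype.comp e.symm.toMonoidHom, ⟨?_, fun y => hP (e.symm y).2, g⁻¹, ?_⟩, fun x => ?_⟩
    · rintro _ ⟨x, rfl⟩
      exact hφ x
    · rintro ⟨_, x, rfl⟩
      show ι ⟨((e.symm ⟨φ x, ⟨x, rfl⟩⟩ : P) : Ω), _⟩ = g⁻¹ * ι ⟨φ x, _⟩ * g⁻¹⁻¹
      rw [hg, inv_inv]
      simp only [he, mul_assoc, inv_mul_cancel, mul_one, inv_mul_cancel_left]
    · exact congrArg Subtype.val (he x)

theorem realizedSystem_isRealizedBy {G : Type*} [Group G] (ι : S →* G) (hι : Function.Injective ι) :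
    (realizedSystem ι hι).IsRealizedBy ι :=
  ⟨hι, fun _ hP _ hφ => ⟨fun ⟨_, _, h⟩ => h, fun h => ⟨hP, hφ, h⟩⟩⟩

/-- A realizing group with an element of order `3` acting on a `2`-subgroup. -/
def HasWitness.{u} (X : Type u) [Group X] : Prop :=
  ∃ (G : Type) (_ : Group G) (_ : Finite G) (T : Sylow 2 G) (V : Subgroup G) (g : G),
    Nonempty (X ≃* (T : Subgroup G)) ∧ g ^ 3 = 1 ∧ IsPGroup 2 V ∧
      (∀ v ∈ V, g * v * g⁻¹ ∈ V) ∧ ∃ v ∈ V, g * v * g⁻¹ ≠ v

theorem HasWitness.congr.{u, v} {X : Type u} [Group X] {Y : Type v} [Group Y]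
    (h : HasWitness X) (e : Y ≃* X) : HasWitness Y := by
  obtain ⟨G, _, _, T, V, g, ⟨f⟩, h⟩ := h
  exact ⟨G, inferInstance, inferInstance, T, V, g, ⟨e.trans f⟩, h⟩

theorem exists_not_supersoluble [Finite S] [Fact (Nat.Prime 2)] (h : HasWitness S) :
    ∃ F : Cfsg.FusionSystem S, F.IsSaturated 2 ∧ ¬ IsSupersoluble F := by
  classical
  obtain ⟨G, _, _, T, V, g, ⟨e⟩, hg3, hV, hgV, v, hv, hgv⟩ := h
  let ι : S →* G := (T : Subgroup G).subtype.comp e.toMonoidHom
  have hι : Function.Injective ι := (Subgroup.subtype_injective _).comp e.injective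
  have hrange : ι.range = T := by
    ext x
    exact ⟨fun ⟨s, hs⟩ => hs ▸ (e s).2, fun hx => ⟨e.symm ⟨x, hx⟩, congrArg Subtype.val
      (e.apply_symm_apply ⟨x, hx⟩)⟩⟩
  have hreal := realizedSystem_isRealizedBy ι hι
  refine ⟨realizedSystem ι hι, realized_isSaturated hreal ⟨T, hrange.symm⟩, ?_⟩
  rintro ⟨m, c, h0, hlast, hcl, hstep⟩
  obtain ⟨a, ha⟩ := exists_conj_le_sylow T hV
  set W : Subgroup G := V.map (MulAut.conj a).toMonoidHom with hWdef
  have hWT : W ≤ T := by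
    rintro _ ⟨x, hx, rfl⟩
    exact ha x hx
  set g' : G := a * g * a⁻¹ with hg'
  have hgW : ∀ w ∈ W, g' * w * g'⁻¹ ∈ W := by
    rintro _ ⟨x, hx, rfl⟩
    refine ⟨g * x * g⁻¹, hgV x hx, ?_⟩
    show a * (g * x * g⁻¹) * a⁻¹ = g' * (a * x * a⁻¹) * g'⁻¹
    rw [hg']; group
  have hg'3 : g' ^ 3 = 1 := by rw [hg', conj_pow, hg3, mul_one, mul_inv_cancel]
  have hgW' : ∀ w ∈ W, g'⁻¹ * w * g' ∈ W := by
    intro w hw
    have : g'⁻¹ = g' * g' := inv_eq_of_mul_eq_one_right (by rw [← mul_assoc, ← pow_two, ← pow_succ, hg'3])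
    have h2 := hgW _ (hgW w hw)
    rw [show g'⁻¹ * w * g' = g'⁻¹ * w * g'⁻¹⁻¹ by rw [inv_inv], this]
    simpa [mul_assoc, mul_inv_rev] using h2
  let α : MulAut W :=
    { toFun := fun w => ⟨g' * w * g'⁻¹, hgW w w.2⟩
      invFun := fun w => ⟨g'⁻¹ * w * g', hgW' w w.2⟩
      left_inv := fun w => Subtype.ext (show g'⁻¹ * (g' * (w : G) * g'⁻¹) * g' = w by group)
      right_inv := fun w => Subtype.ext (show g' * (g'⁻¹ * (w : G) * g') * g'⁻¹ = w by group)
      map_mul' := fun u w => Subtype.ext (show g' * ((u : G) * w) * g'⁻¹ =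
        g' * u * g'⁻¹ * (g' * w * g'⁻¹) by group) }
  have hα : ∀ w : W, ((α w : W) : G) = g' * w * g'⁻¹ := fun w => rfl
  let f : W →* S := e.symm.toMonoidHom.comp (Subgroup.inclusion hWT)
  have hf : Function.Injective f := e.symm.injective.comp (Subgroup.inclusion_injective hWT)
  have hιf : ∀ w : W, ι (f w) = w := fun w =>
    congrArg Subtype.val (e.apply_symm_apply (Subgroup.inclusion hWT w))
  let d : Fin (m + 1) → Subgroup W := fun i => ((c i).subgroupOf S).comap f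
  have hnorm : ∀ i, ((c i).subgroupOf S).Normal := fun i =>
    subgroupOf_normal_of_stronglyClosed (hcl i) le_rfl
  have hinv : ∀ i, ∀ w ∈ d i, α w ∈ d i := by
    intro i w hw
    have hw' : ((f w : S) : Ω) ∈ c i := hw
    set P := Subgroup.zpowers ((f w : S) : Ω) with hP
    have hPS : P ≤ S := Subgroup.zpowers_le.2 (f w).2
    have hcond : ∀ x : P, g' * ι ⟨x, hPS x.2⟩ * g'⁻¹ ∈ ι.range := by
      rintro ⟨x, k, rfl⟩
      rw [show (⟨((f w : S) : Ω) ^ k, hPS ⟨k, rfl⟩⟩ : S) = f (w ^ k) by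
        rw [map_zpow]; exact Subtype.ext (Subgroup.coe_zpow _ _ _).symm, hιf, hrange]
      exact hWT (hgW _ (w ^ k).2)
    obtain ⟨φ, hφ, hφg⟩ := realized_subgroup_conj hreal hPS g' hcond
    have hmem := (hcl i).2 P (Subgroup.zpowers_le.2 hw') φ hφ ⟨_, Subgroup.mem_zpowers _⟩
    have heq : (⟨φ ⟨_, Subgroup.mem_zpowers _⟩, (hcl i).1 hmem⟩ : S) = f (α w) := by
      refine hι ?_
      rw [hφg, hιf (α w), hα]
      exact congrArg (fun y => g' * y * g'⁻¹) (hιf w)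
    show f (α w) ∈ (c i).subgroupOf S
    rw [← heq]
    exact hmem
  have hα3 : α ^ 3 = 1 := MulEquiv.ext fun w => Subtype.ext (by
    show g' * (g' * (g' * (w : G) * g'⁻¹) * g'⁻¹) * g'⁻¹ = w
    calc g' * (g' * (g' * (w : G) * g'⁻¹) * g'⁻¹) * g'⁻¹ = g' ^ 3 * (w : G) * (g' ^ 3)⁻¹ := by
          simp [pow_succ, mul_assoc]
      _ = w := by rw [hg'3, one_mul, inv_one, mul_one])
  have hWp : IsPGroup 2 W := hV.map _
  have hHinv : ∀ h ∈ Subgroup.zpowers α, ∀ i, ∀ w ∈ d i, h w ∈ d i := by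
    intro h hh i w hw
    obtain ⟨k, rfl⟩ : ∃ k : ℕ, α ^ k = h :=
      ((IsOfFinOrder.mem_powers_iff_mem_zpowers
        (isOfFinOrder_iff_pow_eq_one.2 ⟨3, by norm_num, hα3⟩)).2 hh)
    clear hh
    induction k with
    | zero => exact hw
    | succ k ih => rw [pow_succ', MulAut.mul_apply]; exact hinv i _ ih
  have hsteps : ∀ i : Fin m, ∃ y, d i.succ = d i.castSucc ⊔ Subgroup.zpowers y := by
    intro i
    obtain ⟨hle, x, hxS, hx⟩ := hstep i
    haveI := hnorm i.castSucc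
    set N := (c i.castSucc).subgroupOf S with hN
    set π := (QuotientGroup.mk' N).comp f with hπ
    have hKle : (d i.succ).map π ≤ Subgroup.zpowers (QuotientGroup.mk' N ⟨x, hxS⟩) := by
      have h1 : (c i.succ).subgroupOf S = N ⊔ Subgroup.zpowers (⟨x, hxS⟩ : S) := by
        rw [hx, Subgroup.subgroupOf_sup (hcl _).1 (Subgroup.zpowers_le.2 hxS)]
        congr 1
        ext y
        rw [Subgroup.mem_subgroupOf, Subgroup.mem_zpowers_iff, Subgroup.mem_zpowers_iff]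
        exact exists_congr fun k => by rw [Subtype.ext_iff, Subgroup.coe_zpow]
      rintro _ ⟨w, hw, rfl⟩
      have h2 : QuotientGroup.mk' N (f w) ∈ ((c i.succ).subgroupOf S).map (QuotientGroup.mk' N) :=
        ⟨f w, hw, rfl⟩
      rwa [h1, Subgroup.map_sup, QuotientGroup.map_mk'_self, bot_sup_eq,
        MonoidHom.map_zpowers] at h2
    haveI : IsCyclic ((d i.succ).map π) := Subgroup.isCyclic_of_le hKle
    obtain ⟨k, hk⟩ :=
      (Subgroup.isCyclic_iff_exists_zpowers_eq_top ((d i.succ).map π)).1 inferInstance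
    obtain ⟨y, hy, hyk⟩ : k ∈ (d i.succ).map π := hk ▸ Subgroup.mem_zpowers k
    refine ⟨y, le_antisymm (fun w hw => ?_) (sup_le (fun w hw => ?_) (Subgroup.zpowers_le.2 hy))⟩
    · obtain ⟨n, hn⟩ : π w ∈ Subgroup.zpowers k := hk ▸ Subgroup.mem_map_of_mem π hw
      have h3 : w * (y ^ n)⁻¹ ∈ d i.castSucc := by
        have h4 : π (w * (y ^ n)⁻¹) = 1 := by
          rw [map_mul, map_inv, map_zpow, hyk]
          exact mul_inv_eq_one.2 hn.symm
        show f (w * (y ^ n)⁻¹) ∈ N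
        exact (QuotientGroup.eq_one_iff (N := N) (f (w * (y ^ n)⁻¹))).1 h4
      rw [show w = w * (y ^ n)⁻¹ * y ^ n by group]
      exact Subgroup.mul_mem _ (Subgroup.mem_sup_left h3)
        (Subgroup.mem_sup_right (zpow_mem (Subgroup.mem_zpowers y) n))
    · exact hle hw
  obtain ⟨-, hexp⟩ := abelian_exponent_of_chain hWp (H := Subgroup.zpowers α)
    (by rw [Nat.card_zpowers]
        exact Nat.Coprime.coprime_dvd_left (orderOf_dvd_of_pow_eq_one hα3) (by norm_num))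
    d (by
      show ((c 0).subgroupOf S).comap f = ⊥
      rw [h0, Subgroup.bot_subgroupOf, MonoidHom.comap_bot, MonoidHom.ker_eq_bot_iff]
      exact hf)
    (by
      show ((c (Fin.last m)).subgroupOf S).comap f = ⊤
      rw [hlast, Subgroup.subgroupOf_self, Subgroup.comap_top])
    (fun i => (hnorm i).comap f) hHinv hsteps
  have hα1 : α = 1 := by simpa using hexp α (Subgroup.mem_zpowers α)
  apply hgv
  have h1 : g' * (a * v * a⁻¹) * g'⁻¹ = a * v * a⁻¹ :=
    congrArg Subtype.val (DFunLike.congr_fun hα1 (⟨_, Subgroup.mem_map_of_mem _ hv⟩ : W))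
  rw [hg'] at h1
  have h2 : a * (g * v * g⁻¹) * a⁻¹ = a * v * a⁻¹ := by rw [← h1]; group
  exact mul_left_cancel (mul_right_cancel h2)

end CfsgLib.FusionMetacyclic
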