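import Cfsg.Agent.Lib.FusionMetacyclic.Layer
import Cfsg.Agent.Lib.Fusion.SmallFix
import Mathlib.Data.ZMod.Basic
import Mathlib.FieldTheory.Finite.Basic

/-!
# Strongly closed subgroups with at most `p²` elements of order dividing `p`, `p` odd
-/

set_option autoImplicit false

namespace CfsgLib.FusionMetacyclic

open Cfsg Cfsg.FusionSystem CfsgLib.Fusion CfsgLib.Fusion.SmallFix

universe u

variable {Ω : Type u} [Group Ω] {S : Subgroup Ω} {F : Cfsg.FusionSystem S}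
variable {E P : Subgroup Ω} {p : ℕ}

/-- Two independent elements of an elementary abelian group of order at most `p²` generate it. -/
theorem exists_coord [Fact p.Prime] {G : Type*} [Group G] {W : Subgroup G} [Finite W]
    (hexp : ∀ w ∈ W, w ^ p = 1) (hcard : Nat.card W ≤ p ^ 2) {a b : G} (haW : a ∈ W) (hbW : b ∈ W)
    (ha1 : a ≠ 1) (hb : b ∉ Subgroup.zpowers a) :
    Nat.card W = p ^ 2 ∧ Subgroup.zpowers a ⊔ Subgroup.zpowers b = W := by
  have hp : p.Prime := Fact.out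
  have hW : IsPGroup p W := fun w => ⟨1, Subtype.ext (by simpa using hexp w w.2)⟩
  set U := Subgroup.zpowers a ⊔ Subgroup.zpowers b with hU
  have hUW : U ≤ W := sup_le (Subgroup.zpowers_le.2 haW) (Subgroup.zpowers_le.2 hbW)
  have hlt : Subgroup.zpowers a < U := lt_of_le_of_ne le_sup_left fun he =>
    hb (he.ge (Subgroup.mem_sup_right (Subgroup.mem_zpowers b)))
  have : Finite U := Finite.of_injective _ (Subgroup.inclusion_injective hUW)
  have hcl : p < Nat.card U := by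
    have h1 : Nat.card (Subgroup.zpowers a) < Nat.card U := lt_of_not_ge fun hge =>
      hlt.ne (Subgroup.eq_of_le_of_card_ge hlt.le hge)
    rwa [Nat.card_zpowers, orderOf_eq_prime (hexp a haW) ha1] at h1
  obtain ⟨r, hr⟩ := IsPGroup.iff_card.1 (hW.to_le hUW)
  have hr2 : 2 ≤ r := by
    by_contra hcon
    rw [hr] at hcl
    have : p ^ r ≤ p ^ 1 := Nat.pow_le_pow_right hp.pos (by omega)
    rw [pow_one] at this
    omega
  have hle : p ^ 2 ≤ Nat.card U := hr ▸ Nat.pow_le_pow_right hp.pos hr2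
  have heq : U = W := Subgroup.eq_of_le_of_card_ge hUW (hcard.trans hle)
  exact ⟨le_antisymm hcard (heq ▸ hle), heq⟩

/-- Coordinates in an elementary abelian group of order at most `p²`. -/
theorem exists_exponents [Fact p.Prime] {G : Type*} [Group G] {W : Subgroup G} [Finite W]
    (hexp : ∀ w ∈ W, w ^ p = 1) (hcard : Nat.card W ≤ p ^ 2)
    (hcomm : ∀ x ∈ W, ∀ y ∈ W, Commute x y) {c d : G} (hc : c ∈ W) (hd : d ∈ W)
    (hc1 : c ≠ 1) (hd1 : d ∉ Subgroup.zpowers c) {w : G} (hw : w ∈ W) :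
    ∃ i j : ℕ, w = c ^ i * d ^ j := by
  have hpos := (Fact.out : p.Prime).pos
  have hc' : IsOfFinOrder c := isOfFinOrder_iff_pow_eq_one.2 ⟨p, hpos, hexp c hc⟩
  have hd' : IsOfFinOrder d := isOfFinOrder_iff_pow_eq_one.2 ⟨p, hpos, hexp d hd⟩
  obtain ⟨-, h⟩ := exists_coord hexp hcard hc hd hc1 hd1
  rw [← h] at hw
  have hn : Subgroup.zpowers c ≤ Subgroup.normalizer (Subgroup.zpowers d : Set G) := by
    refine (Subgroup.zpowers_le.2 ?_).trans (centralizer_le_normalizer _)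
    rw [Subgroup.mem_centralizer_iff]
    rintro _ hx
    obtain ⟨n, rfl⟩ := Subgroup.mem_zpowers_iff.1 hx
    exact ((hcomm c hc d hd).zpow_right n).eq.symm
  have hw' : w ∈ ((Subgroup.zpowers c ⊔ Subgroup.zpowers d : Subgroup G) : Set G) := hw
  rw [Subgroup.coe_mul_of_left_le_normalizer_right _ _ hn] at hw'
  obtain ⟨x, hx, y, hy, rfl⟩ := hw'
  obtain ⟨i, rfl⟩ := hc'.mem_powers_iff_mem_zpowers.2 hx
  obtain ⟨j, rfl⟩ := hd'.mem_powers_iff_mem_zpowers.2 hy
  exact ⟨i, j, rfl⟩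

/-- A `p`-power order automorphism fixing `c` moves elements by powers of `c`. -/
theorem exists_unipotent [Fact p.Prime] {G : Type*} [Group G] {W : Subgroup G} [Finite W]
    (hexp : ∀ w ∈ W, w ^ p = 1) (hcard : Nat.card W ≤ p ^ 2)
    (hcomm : ∀ x ∈ W, ∀ y ∈ W, Commute x y) {γ : MulAut G} (hγ : ∀ w ∈ W, γ w ∈ W) {k : ℕ}
    (hk : γ ^ p ^ k = 1) {c d : G} (hc : c ∈ W) (hd : d ∈ W) (hc1 : c ≠ 1)
    (hd1 : d ∉ Subgroup.zpowers c) (hγc : γ c = c) : ∃ i : ℕ, γ d = d * c ^ i := by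
  have hp : p.Prime := Fact.out
  obtain ⟨i, j, hij⟩ := exists_exponents hexp hcard hcomm hc hd hc1 hd1 (hγ d hd)
  have hiter : ∀ n : ℕ, ∃ m : ℕ, (γ ^ n) d = c ^ m * d ^ (j ^ n) := by
    intro n
    induction n with
    | zero => exact ⟨0, by simp⟩
    | succ n ih =>
      obtain ⟨m, hm⟩ := ih
      refine ⟨m + i * j ^ n, ?_⟩
      rw [pow_succ', MulAut.mul_apply, hm, map_mul, map_pow, map_pow, hγc, hij,
        ((hcomm _ hc _ hd).pow_pow i j).mul_pow, ← mul_assoc, ← pow_mul, ← pow_add, ← pow_mul,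
        pow_succ']
  obtain ⟨m, hm⟩ := hiter (p ^ k)
  rw [hk] at hm
  replace hm : d = c ^ m * d ^ (j ^ p ^ k) := hm
  have h1 : c ^ m * d ^ (j ^ p ^ k + (p - 1)) = 1 := by
    rw [pow_add, ← mul_assoc, ← hm, ← pow_succ', Nat.sub_add_cancel hp.one_le, hexp d hd]
  have hdvd : p ∣ j ^ p ^ k + (p - 1) := by
    by_contra hnd
    refine hd1 ?_
    obtain ⟨e, he⟩ := exists_pow_eq_self_of_coprime (x := d) (n := j ^ p ^ k + (p - 1))
      (Nat.Coprime.coprime_dvd_right (orderOf_dvd_of_pow_eq_one (hexp d hd))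
        (hp.coprime_iff_not_dvd.2 hnd).symm)
    rw [← he, eq_inv_of_mul_eq_one_right h1]
    exact pow_mem (inv_mem (pow_mem (Subgroup.mem_zpowers c) _)) e
  have h2 := (ZMod.natCast_eq_zero_iff _ _).2 hdvd
  rw [Nat.cast_add, Nat.cast_pow, ZMod.pow_card_pow, Nat.cast_sub hp.one_le, ZMod.natCast_self,
    zero_sub, Nat.cast_one, ← sub_eq_add_neg, sub_eq_zero] at h2
  have h3 : j ≡ 1 [MOD p] := (ZMod.natCast_eq_natCast_iff _ _ _).1 (by rw [h2, Nat.cast_one])
  refine ⟨i, ?_⟩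
  rw [hij, pow_eq_pow_iff_modEq.2 (h3.of_dvd (orderOf_dvd_of_pow_eq_one (hexp d hd))), pow_one]
  exact ((hcomm _ hc _ hd).pow_left i).eq

theorem pow_mem_mul_of_normalizes {G : Type*} [Group G] {E : Subgroup G} {u y : G}
    (hu : u ∈ Subgroup.normalizer (E : Set G)) (hy : y ∈ E) (n : ℕ) :
    ∃ e ∈ E, (u * y) ^ n = u ^ n * e := by
  induction n with
  | zero => exact ⟨1, E.one_mem, by simp⟩
  | succ n ih =>
    obtain ⟨e, he, h⟩ := ih
    refine ⟨u⁻¹ * e * u * y, E.mul_mem ?_ hy, ?_⟩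
    · simpa using (Subgroup.mem_normalizer_iff.1 (inv_mem hu) e).1 he
    · rw [pow_succ, h, pow_succ]
      simp [mul_assoc]

set_option maxHeartbeats 1000000 in
/-- A strongly closed subgroup with few elements of order `p` lies in every essential subgroup. -/
theorem le_essential_odd [Finite S] [Fact p.Prime] (hp2 : p ≠ 2) (hS : IsPGroup p S)
    (hF : F.IsSaturated p) (hP : F.StronglyClosed P) (hE : F.IsEssential p E)
    (K : Subgroup Ω) (hK : Nat.card K ≤ p ^ 2) (hKP : K ≤ S)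
    (hKm : ∀ x ∈ P, x ^ p = 1 → x ∈ K) (hKc : ∀ x ∈ K, ∀ y ∈ K, x * y = y * x) :
    P ≤ E := by
  classical
  by_contra hPE
  have hp : p.Prime := Fact.out
  have hEc := hE.1
  have hES := hEc.1
  have hrad := isRadical_of_isEssential hS hF hE
  have hrec := isReceptive_of_isFullyNormalized hS hF hE.2.1
  have : Finite E := finite_of_le hES
  have : Finite K := finite_of_le hKP
  have : Finite (MulAut E) := finite_mulAut
  have hEp : IsPGroup p E := hS.to_le hES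
  obtain ⟨u, huP, huE, hun, hup⟩ := exists_step hS hP hES hPE
  have huS := hP.1 huP
  -- elements of order dividing `p` of `E ∩ P`
  have hcomm : ∀ x y : E, (x : Ω) ∈ P → x ^ p = 1 → (y : Ω) ∈ P → y ^ p = 1 → Commute x y :=
    fun x y hx hxp hy hyp => Subtype.ext (hKc _
      (hKm _ hx (by rw [← SubgroupClass.coe_pow, hxp]; rfl)) _
      (hKm _ hy (by rw [← SubgroupClass.coe_pow, hyp]; rfl)))
  let W : Subgroup E :=
    { carrier := {y | (y : Ω) ∈ P ∧ y ^ p = 1}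
      one_mem' := ⟨P.one_mem, one_pow p⟩
      mul_mem' := by
        rintro x y ⟨hx, hxp⟩ ⟨hy, hyp⟩
        exact ⟨P.mul_mem hx hy, by rw [(hcomm x y hx hxp hy hyp).mul_pow, hxp, hyp, one_mul]⟩
      inv_mem' := by
        rintro x ⟨hx, hxp⟩
        exact ⟨P.inv_mem hx, by rw [inv_pow, hxp, inv_one]⟩ }
  have hWK : W.map E.subtype ≤ K := by
    rintro _ ⟨w, ⟨hw, hwp⟩, rfl⟩
    exact hKm _ hw (by rw [E.coe_subtype, ← SubgroupClass.coe_pow, hwp]; rfl)
  have hWcard : Nat.card W ≤ p ^ 2 := by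
    rw [← Subgroup.card_map_of_injective (Subgroup.subtype_injective E)]
    exact (Nat.card_le_card_of_injective _ (Subgroup.inclusion_injective hWK)).trans hK
  have hinvW : ∀ α ∈ layer F E P, ∀ w ∈ W, α w ∈ W := fun α hα w hw =>
    ⟨apply_layer_mem hα hw.1, by rw [← map_pow, hw.2, map_one]⟩
  -- automorphisms fixing `W`
  let LW : Subgroup (MulAut E) :=
    { carrier := {α | α ∈ layer F E P ∧ ∀ w ∈ W, α w = w}
      one_mem' := ⟨one_mem _, fun _ _ => rfl⟩
      mul_mem' := by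
        rintro α β ⟨hα, hα'⟩ ⟨hβ, hβ'⟩
        exact ⟨mul_mem hα hβ, fun w hw => by rw [MulAut.mul_apply, hβ' w hw, hα' w hw]⟩
      inv_mem' := by
        rintro α ⟨hα, hα'⟩
        refine ⟨inv_mem hα, fun w hw => ?_⟩
        conv_lhs => rw [← hα' w hw]
        exact MulAut.inv_apply_self _ _ _ }
  have hcop : ∀ α ∈ LW, (orderOf α).Coprime p → α = 1 := by
    rintro α ⟨hα, hfix⟩ hord
    refine MulEquiv.ext fun e => CfsgLib.Fusion.Stability.eq_self_of_disp_fixed hEp α hord ?_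
    refine fix_of_fix_small hEp α hord (P.subgroupOf E) (fun y hy => apply_layer_mem hα hy)
      (fun y hy hs => hfix y ⟨hy, ?_⟩) _ (hα.2 e)
    rcases hs with h | ⟨h, -⟩
    · exact h
    · exact absurd h hp2
  have hLWp : IsPGroup p LW := CfsgLib.Fusion.Stability.isPGroup_of_coprime_eq_one fun a ha =>
    Subtype.ext (hcop a a.2 (by rwa [Subgroup.orderOf_coe]))
  have hLWinn : LW ≤ Cfsg.Inn E := le_inn hP hrad LW (fun _ h => h.1) (fun γ hγ α hα =>
    ⟨mul_mem (mul_mem hγ hα.1) (inv_mem hγ), fun w hw => by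
      show γ (α (γ⁻¹ w)) = w
      rw [hα.2 _ (hinvW _ (inv_mem hγ) w hw), MulAut.apply_inv_self]⟩) hLWp
  set t := conjAut E u hun with ht
  have htK : t ∈ layer F E P := conjAut_mem_layer hP hES huP hun
  have htn : t ∉ Cfsg.Inn E := conjAut_not_inn hEc huS huE hun
  -- `t` has `p`-power order
  obtain ⟨k₀, hk₀⟩ := hS ⟨u, huS⟩
  have htpow : t ^ p ^ k₀ = 1 := by
    refine MulEquiv.ext fun e => Subtype.ext ?_
    have hu1 : u ^ p ^ k₀ = 1 := by
      have := congrArg Subtype.val hk₀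
      simpa using this
    have hn : ∀ n : ℕ, (((t ^ n) e : E) : Ω) = u ^ n * (e : Ω) * (u ^ n)⁻¹ := by
      intro n
      induction n with
      | zero => simp
      | succ n ih =>
        rw [pow_succ', MulAut.mul_apply, ht, conjAut_apply, ← ht, ih, pow_succ']
        simp [mul_assoc]
    rw [hn, hu1]
    simp
  obtain ⟨b₀, hb₀W, hb₀⟩ : ∃ b ∈ W, t b ≠ b := by
    by_contra hcon
    push Not at hcon
    exact htn (hLWinn ⟨htK, hcon⟩)
  -- a fixed element
  obtain ⟨a, haW, ha1, hta⟩ : ∃ a ∈ W, a ≠ 1 ∧ t a = a := by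
    have hWn : W ≠ ⊥ := fun h => hb₀ (by
      rw [h, Subgroup.mem_bot] at hb₀W
      rw [hb₀W, map_one])
    let A : Subgroup (MulAut E) := Subgroup.zpowers t
    have hA : IsPGroup p A := fun x => by
      obtain ⟨n, hn⟩ := Subgroup.mem_zpowers_iff.1 x.2
      refine ⟨k₀, Subtype.ext ?_⟩
      rw [SubgroupClass.coe_pow, ← hn, ← zpow_natCast, ← zpow_mul, mul_comm, zpow_mul, zpow_natCast,
        htpow, one_zpow]
      rfl
    have hAK : ∀ x : A, (x : MulAut E) ∈ layer F E P := fun x =>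
      (Subgroup.zpowers_le.2 htK) x.2
    letI : MulAction A W :=
      { smul := fun x w => ⟨(x : MulAut E) w, hinvW _ (hAK x) w w.2⟩
        one_smul := fun w => Subtype.ext rfl
        mul_smul := fun x y w => Subtype.ext rfl }
    have hdvd : p ∣ Nat.card W := by
      have hWp : IsPGroup p W := hEp.to_subgroup W
      obtain ⟨r, hr⟩ := IsPGroup.iff_card.1 hWp
      rcases r with _ | r
      · exact absurd ((Subgroup.card_eq_one).1 (by rw [hr, pow_zero])) hWn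
      · exact hr ▸ dvd_pow_self p (by omega)
    obtain ⟨w, hw, hw1⟩ := hA.exists_fixed_point_of_prime_dvd_card_of_fixed_point W hdvd
      (a := (1 : W)) (fun x => Subtype.ext (map_one (x : MulAut E)))
    refine ⟨w, w.2, fun h => hw1 (Subtype.ext h.symm), ?_⟩
    exact congrArg Subtype.val (hw ⟨t, Subgroup.mem_zpowers t⟩)
  have haord : orderOf a = p := orderOf_eq_prime haW.2 ha1
  have hWc : ∀ x ∈ W, ∀ y ∈ W, Commute x y := fun x hx y hy => hcomm x y hx.1 hx.2 hy.1 hy.2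
  -- coordinates
  have hexp : ∀ w ∈ W, w ^ p = 1 := fun w hw => hw.2
  -- an element of the layer moving the line
  obtain ⟨α, hαK, hαa⟩ : ∃ α ∈ layer F E P, α a ∉ Subgroup.zpowers a := by
    by_contra hcon
    push Not at hcon
    have hstab : ∀ γ ∈ layer F E P, ∀ x ∈ Subgroup.zpowers a, γ x ∈ Subgroup.zpowers a := by
      intro γ hγ x hx
      obtain ⟨n, rfl⟩ := Subgroup.mem_zpowers_iff.1 hx
      rw [map_zpow]
      exact zpow_mem (hcon γ hγ) n
    let L : Subgroup (MulAut E) :=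
      { carrier := {γ | γ ∈ layer F E P ∧ γ a = a ∧ ∀ w ∈ W, w⁻¹ * γ w ∈ Subgroup.zpowers a}
        one_mem' := ⟨one_mem _, rfl, fun w _ => by
          show w⁻¹ * w ∈ _
          rw [inv_mul_cancel]; exact one_mem _⟩
        mul_mem' := by
          rintro γ δ ⟨hγ, hγa, hγw⟩ ⟨hδ, hδa, hδw⟩
          refine ⟨mul_mem hγ hδ, by rw [MulAut.mul_apply, hδa, hγa], fun w hw => ?_⟩
          have := mul_mem (hδw w hw) (hγw _ (hinvW δ hδ w hw))
          simpa [mul_assoc] using this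
        inv_mem' := by
          rintro γ ⟨hγ, hγa, hγw⟩
          refine ⟨inv_mem hγ, ?_, fun w hw => ?_⟩
          · conv_lhs => rw [← hγa]
            exact MulAut.inv_apply_self _ _ _
          · have := inv_mem (hγw _ (hinvW _ (inv_mem hγ) w hw))
            simpa using this }
    have hLp : IsPGroup p L := by
      intro γ
      obtain ⟨hγK, hγa, hγw⟩ := γ.2
      have hpow : ((γ : MulAut E) ^ p) ∈ LW := by
        refine ⟨pow_mem hγK p, fun w hw => ?_⟩
        have hd := hγw w hw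
        have hdW : w⁻¹ * (γ : MulAut E) w ∈ W := mul_mem (inv_mem hw) (hinvW _ hγK w hw)
        have hfix : (γ : MulAut E) (w⁻¹ * (γ : MulAut E) w) = w⁻¹ * (γ : MulAut E) w := by
          obtain ⟨n, hn⟩ := Subgroup.mem_zpowers_iff.1 hd
          rw [← hn, map_zpow, hγa]
        have hn : ∀ n : ℕ, ((γ : MulAut E) ^ n) w = w * (w⁻¹ * (γ : MulAut E) w) ^ n := by
          intro n
          induction n with
          | zero => simp
          | succ n ih =>
            rw [pow_succ', MulAut.mul_apply, ih, map_mul, map_pow, hfix, pow_succ']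
            simp [mul_assoc]
        rw [hn, hdW.2, mul_one]
      obtain ⟨k, hk⟩ := hLWp ⟨_, hpow⟩
      refine ⟨k + 1, Subtype.ext ?_⟩
      have h1 : ((γ : MulAut E) ^ p) ^ p ^ k = 1 := congrArg Subtype.val hk
      rw [SubgroupClass.coe_pow, pow_succ', pow_mul, h1]
      rfl
    have hLinn : L ≤ Cfsg.Inn E := by
      refine le_inn hP hrad L (fun _ h => h.1) (fun γ hγ δ hδ =>
        ⟨mul_mem (mul_mem hγ hδ.1) (inv_mem hγ), ?_, fun w hw => ?_⟩) hLp
      · show γ (δ (γ⁻¹ a)) = a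
        obtain ⟨n, hn⟩ := Subgroup.mem_zpowers_iff.1
          (hstab _ (inv_mem hγ) a (Subgroup.mem_zpowers a))
        rw [← hn, map_zpow, hδ.2.1, hn, MulAut.apply_inv_self]
      · have h1 := hδ.2.2 _ (hinvW _ (inv_mem hγ) w hw)
        have h2 := hstab γ hγ _ h1
        simpa [map_mul] using h2
    refine htn (hLinn ⟨htK, hta, fun w hw => ?_⟩)
    -- `t` is unipotent on `W`
    by_cases hwA : w ∈ Subgroup.zpowers a
    · obtain ⟨n, rfl⟩ := Subgroup.mem_zpowers_iff.1 hwA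
      rw [map_zpow, hta, inv_mul_cancel]
      exact one_mem _
    obtain ⟨i, hi⟩ := exists_unipotent hexp hWcard hWc (hinvW t htK) htpow haW hw ha1 hwA hta
    rw [hi, inv_mul_cancel_left]
    exact pow_mem (Subgroup.mem_zpowers a) i
  -- the two transvections
  set b := α a with hb
  have hbW : b ∈ W := hinvW α hαK a haW
  obtain ⟨i, hti⟩ := exists_unipotent hexp hWcard hWc (hinvW t htK) htpow haW hbW ha1 hαa hta
  have hgenW : ∀ w ∈ W, ∃ i j : ℕ, w = a ^ i * b ^ j := fun w hw =>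
    exists_exponents hexp hWcard hWc haW hbW ha1 hαa hw
  have hfixall : ∀ γ : MulAut E, γ a = a → γ b = b → ∀ w ∈ W, γ w = w := by
    intro γ h1 h2 w hw
    obtain ⟨i, j, rfl⟩ := hgenW w hw
    rw [map_mul, map_pow, map_pow, h1, h2]
  have hmod : ∀ (c : E), c ∈ W → ∀ n m : ℕ, n ≡ m [MOD p] → c ^ n = c ^ m := fun c hc n m h =>
    pow_eq_pow_iff_modEq.2 (h.of_dvd (orderOf_dvd_of_pow_eq_one hc.2))
  have hi : ¬ p ∣ i := by
    intro hd
    refine htn (hLWinn ⟨htK, hfixall t hta ?_⟩)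
    rw [hti, hmod a haW i 0 (Nat.modEq_zero_iff_dvd.2 hd), pow_zero, mul_one]
  set a₁ := a ^ i with ha₁
  have ha₁W : a₁ ∈ W := pow_mem haW i
  obtain ⟨c₀, hc₀⟩ := exists_pow_eq_self_of_coprime (x := a) (n := i)
    (by rw [haord]; exact (hp.coprime_iff_not_dvd.2 hi).symm)
  have hs₀K : α * t * α⁻¹ ∈ layer F E P := mul_mem (mul_mem hαK htK) (inv_mem hαK)
  set s₀ := α * t * α⁻¹ with hs₀
  have hs₀b : s₀ b = b := by
    show α (t (α⁻¹ (α a))) = α a
    rw [MulAut.inv_apply_self, hta]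
  have hs₀pow : s₀ ^ p ^ k₀ = 1 := by
    rw [hs₀, conj_pow, htpow]
    simp
  have hb1 : b ≠ 1 := fun h => hαa (h ▸ one_mem _)
  have ha₁b : a₁ ∉ Subgroup.zpowers b := by
    intro h
    refine hαa ?_
    have hle : Subgroup.zpowers a ≤ Subgroup.zpowers b := Subgroup.zpowers_le.2 (by
      rw [← hc₀]; exact pow_mem h c₀)
    rw [Subgroup.eq_of_le_of_card_ge hle (by
      rw [Nat.card_zpowers, Nat.card_zpowers, haord, orderOf_eq_prime hbW.2 hb1])]
    exact Subgroup.mem_zpowers b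
  obtain ⟨j₂, hij₂⟩ := exists_unipotent hexp hWcard hWc (hinvW s₀ hs₀K) hs₀pow hbW ha₁W hb1 ha₁b
    hs₀b
  have hj₂ : ¬ p ∣ j₂ := by
    intro hd
    have h1 : s₀ a = a := by
      rw [← hc₀, map_pow, hij₂, hmod b hbW j₂ 0 (Nat.modEq_zero_iff_dvd.2 hd), pow_zero, mul_one]
    have h2 : ∀ w ∈ W, t w = w := fun w hw => by
      have h3 := hfixall s₀ h1 hs₀b _ (hinvW α hαK w hw)
      rw [hs₀, MulAut.mul_apply, MulAut.mul_apply, MulAut.inv_apply_self] at h3
      exact α.injective h3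
    exact htn (hLWinn ⟨htK, h2⟩)
  -- scale to `s a₁ = a₁ b⁻¹`
  obtain ⟨k, hk⟩ : ∃ k : ℕ, j₂ * k + 1 ≡ 0 [MOD p] := by
    refine ⟨((-(j₂ : ZMod p)⁻¹) : ZMod p).val, (ZMod.natCast_eq_natCast_iff _ _ _).1 ?_⟩
    have hj0 : (j₂ : ZMod p) ≠ 0 := fun h => hj₂ ((ZMod.natCast_eq_zero_iff _ _).1 h)
    push_cast [ZMod.natCast_val, ZMod.cast_id]
    rw [mul_neg, mul_inv_cancel₀ hj0, neg_add_cancel]
  have hsK : s₀ ^ k ∈ layer F E P := pow_mem hs₀K k
  set s := s₀ ^ k with hs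
  have hsb : s b = b := by
    have : ∀ n : ℕ, (s₀ ^ n) b = b := by
      intro n
      induction n with
      | zero => rfl
      | succ n ih => rw [pow_succ', MulAut.mul_apply, ih, hs₀b]
    exact this k
  have hsa : s a₁ = a₁ * b⁻¹ := by
    have hn : ∀ n : ℕ, (s₀ ^ n) a₁ = a₁ * b ^ (j₂ * n) := by
      intro n
      induction n with
      | zero => simp
      | succ n ih =>
        rw [pow_succ', MulAut.mul_apply, ih, map_mul, map_pow _ b, hs₀b, hij₂, mul_assoc, ← pow_add]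
        congr 2
        ring
    rw [hs, hn]
    congr 1
    refine eq_inv_of_mul_eq_one_left ?_
    rw [← pow_succ, hmod b hbW _ 0 hk, pow_zero]
  have htb : t b = b * a₁ := hti
  have hta₁ : t a₁ = a₁ := by rw [ha₁, map_pow, hta]
  have hcab : Commute a₁ b := hWc _ ha₁W _ hbW
  -- `σ` inverts `W`
  set w₀ := t * s * t with hw₀
  have hw₀K : w₀ ∈ layer F E P := mul_mem (mul_mem htK hsK) htK
  have hw₀a : w₀ a₁ = b⁻¹ := by
    rw [hw₀, MulAut.mul_apply, MulAut.mul_apply, hta₁, hsa, map_mul, map_inv, hta₁, htb, mul_inv_rev]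
    simp
  have hw₀b : w₀ b = a₁ := by
    rw [hw₀, MulAut.mul_apply, MulAut.mul_apply, htb, map_mul, hsb, hsa, ← mul_assoc, ← hcab.eq,
      mul_inv_cancel_right, hta₁]
  have hσinv : ∀ w ∈ W, (w₀ ^ 2) w = w⁻¹ := by
    have ha' : (w₀ ^ 2) a₁ = a₁⁻¹ := by rw [pow_two, MulAut.mul_apply, hw₀a, map_inv, hw₀b]
    have hb' : (w₀ ^ 2) b = b⁻¹ := by rw [pow_two, MulAut.mul_apply, hw₀b, hw₀a]
    intro w hw
    obtain ⟨m, n, rfl⟩ := hgenW w hw
    have ha'' : (w₀ ^ 2) a = a⁻¹ := by rw [← hc₀, map_pow, ha', inv_pow]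
    rw [map_mul, map_pow, map_pow, hb', ha'', inv_pow, inv_pow, ← mul_inv_rev,
      ((hWc _ haW _ hbW).pow_pow m n).eq]
  obtain ⟨e₀, m₀, hm₀, hord⟩ := Nat.exists_eq_pow_mul_and_not_dvd (orderOf_pos (w₀ ^ 2)).ne' p
    hp.ne_one
  set τ := (w₀ ^ 2) ^ p ^ e₀ with hτ
  have hτK : τ ∈ layer F E P := pow_mem (pow_mem hw₀K 2) _
  have hτord : (orderOf τ).Coprime p := by
    refine Nat.Coprime.coprime_dvd_left ?_ ((hp.coprime_iff_not_dvd.2 hm₀).symm)
    refine orderOf_dvd_of_pow_eq_one ?_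
    rw [hτ, ← pow_mul, ← hord, pow_orderOf_eq_one]
  have hτinv : ∀ w ∈ W, τ w = w⁻¹ := by
    have key : ∀ n : ℕ, ∀ w ∈ W, ((w₀ ^ 2) ^ (2 * n + 1)) w = w⁻¹ := by
      intro n
      induction n with
      | zero => intro w hw; simpa using hσinv w hw
      | succ n ih =>
        intro w hw
        rw [show 2 * (n + 1) + 1 = (2 * n + 1) + 1 + 1 by ring, pow_succ, pow_succ, MulAut.mul_apply,
          MulAut.mul_apply, hσinv w hw, map_inv, hσinv w hw, inv_inv, ih w hw]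
    obtain ⟨n, hn⟩ : Odd (p ^ e₀) := (hp.odd_of_ne_two hp2).pow
    intro w hw
    rw [hτ, hn]
    exact key n w hw
  have hτ2 : τ ^ 2 = 1 := by
    refine hcop _ ⟨pow_mem hτK 2, fun w hw => ?_⟩
      (Nat.Coprime.coprime_dvd_left (orderOf_pow_dvd 2) hτord)
    rw [pow_two, MulAut.mul_apply, hτinv w hw, map_inv, hτinv w hw, inv_inv]
  -- fixed points of `τ` in `E ∩ P`
  have hfpf : ∀ y : E, (y : Ω) ∈ P → τ y = y → y = 1 := by
    intro y hy hfix
    by_contra hy1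
    obtain ⟨n, hn⟩ := hEp.exists_orderOf_eq_pow y
    rcases n with _ | n
    · exact hy1 (orderOf_eq_one_iff.1 (by rw [hn, pow_zero]))
    have hzW : y ^ p ^ n ∈ W := ⟨P.pow_mem hy _, by
      rw [← pow_mul, ← pow_succ, ← hn, pow_orderOf_eq_one]⟩
    have h1 := hτinv _ hzW
    rw [map_pow, hfix] at h1
    have h2 : (y ^ p ^ n) ^ 2 = 1 := by rw [pow_two, mul_eq_one_iff_eq_inv, ← h1]
    have h3 : orderOf (y ^ p ^ n) ∣ Nat.gcd 2 p :=
      Nat.dvd_gcd (orderOf_dvd_of_pow_eq_one h2) (orderOf_dvd_of_pow_eq_one hzW.2)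
    rw [(Nat.coprime_primes Nat.prime_two hp).2 (Ne.symm hp2), Nat.dvd_one, orderOf_eq_one_iff] at h3
    have h4 := orderOf_dvd_of_pow_eq_one h3
    rw [hn, Nat.pow_dvd_pow_iff_le_right hp.one_lt] at h4
    omega
  have hYinv : ∀ y : E, (y : Ω) ∈ P → τ y = y⁻¹ := by
    intro y hy
    let f : {y : E // (y : Ω) ∈ P} → {y : E // (y : Ω) ∈ P} := fun y =>
      ⟨(y : E)⁻¹ * τ y, P.mul_mem (P.inv_mem y.2) (apply_layer_mem hτK y.2)⟩
    have hf : Function.Injective f := by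
      intro x z hxz
      have h1 : (x : E)⁻¹ * τ x = (z : E)⁻¹ * τ z := congrArg Subtype.val hxz
      have h2 : τ ((x : E) * (z : E)⁻¹) = (x : E) * (z : E)⁻¹ := by
        rw [map_mul, map_inv, ← mul_inv_cancel_left (x : E) (τ x), h1]
        simp [mul_assoc]
      exact Subtype.ext (mul_inv_eq_one.1 (hfpf _ (P.mul_mem x.2 (P.inv_mem z.2)) h2))
    obtain ⟨x, hx⟩ := Finite.surjective_of_injective hf ⟨y, hy⟩
    have hx' : (x : E)⁻¹ * τ x = y := congrArg Subtype.val hx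
    rw [← hx', map_mul, map_inv, ← MulAut.mul_apply, ← pow_two, hτ2, mul_inv_rev, inv_inv]
    rfl
  -- `τ` extends to `E⟨u⟩`
  obtain ⟨x₀, hx₀⟩ := hLWinn (show τ * t * τ⁻¹ * t⁻¹ ∈ LW from
    ⟨mul_mem (mul_mem (mul_mem hτK htK) (inv_mem hτK)) (inv_mem htK), fun w hw => by
      have h1 := hinvW _ (inv_mem htK) w hw
      show τ (t (τ⁻¹ (t⁻¹ w))) = w
      have h2 : τ⁻¹ (t⁻¹ w) = (t⁻¹ w)⁻¹ := by
        have h3 := hτinv _ (inv_mem h1)
        rw [inv_inv] at h3
        conv_lhs => rw [← h3]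
        exact MulAut.inv_apply_self _ _ _
      rw [h2, map_inv, MulAut.apply_inv_self, hτinv _ (inv_mem hw), inv_inv]⟩)
  have hτt : τ * t * τ⁻¹ = conjAut E ((x₀ : Ω) * u)
      (mul_mem (Subgroup.le_normalizer x₀.2) hun) := by
    rw [show τ * t * τ⁻¹ = MulAut.conj x₀ * t by rw [hx₀]; simp [mul_assoc]]
    refine MulEquiv.ext fun e => Subtype.ext ?_
    show (x₀ : Ω) * (u * e * u⁻¹) * (x₀ : Ω)⁻¹ = _
    rw [conjAut_apply]
    simp [mul_assoc]
  have hτF : IsFIso F (τ : E ≃* E) := (mem_autGroup_iff hES).1 hτK.1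
  set R := E ⊔ Subgroup.zpowers u with hR
  have hRN : R ≤ normalizerIn S E :=
    sup_le (le_normalizerIn hES) (Subgroup.zpowers_le.2 ⟨huS, hun⟩)
  have hext : R ≤ extender S E (E.subtype.comp (τ : E ≃* E).toMonoidHom) := by
    refine sup_le (le_extender hES fun x => hES (τ x).2) (Subgroup.zpowers_le.2 ?_)
    refine (mem_extender_iff_congr (τ : E ≃* E) (fun _ => rfl) huS hun).2 ?_
    rw [show MulAut.congr (τ : E ≃* E) (conjAut E u hun) = τ * t * τ⁻¹ from
      MulEquiv.ext fun _ => rfl, hτt]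
    exact conjAut_mem_autInducedBy (S.mul_mem (hES x₀.2) huS) _
  obtain ⟨ψ, hψ, -, hag⟩ := hτF.exists_extension hrec (le_sup_left : E ≤ R) hRN fun g hg =>
    (mem_extender_iff_congr (τ : E ≃* E) (fun _ => rfl) (hRN hg).1 (hRN hg).2).1 (hext hg)
  have huR : u ∈ R := Subgroup.mem_sup_right (Subgroup.mem_zpowers u)
  set v := ψ ⟨u, huR⟩ with hv
  have hvP : v ∈ P := stronglyClosed_apply_mem hP hψ _ huP
  have hvE : u⁻¹ * v ∈ E := by
    have hc : ((x₀ : Ω) * u)⁻¹ * v ∈ centralizerIn S E := by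
      refine ⟨S.mul_mem (S.inv_mem (S.mul_mem (hES x₀.2) huS)) (hP.1 hvP), ?_⟩
      show _ ∈ Subgroup.centralizer _
      rw [Subgroup.mem_centralizer_iff]
      intro y hy
      have h1 := congr_conjAut_of_extends (e := (τ : E ≃* E)) le_sup_left hag huR hun ⟨y, hy⟩
      rw [show MulAut.congr (τ : E ≃* E) (conjAut E u hun) = τ * t * τ⁻¹ from
        MulEquiv.ext fun _ => rfl, hτt, conjAut_apply, ← hv] at h1
      calc y * (((x₀ : Ω) * u)⁻¹ * v) =
            ((x₀ : Ω) * u)⁻¹ * (((x₀ : Ω) * u) * y * ((x₀ : Ω) * u)⁻¹) * v := by group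
        _ = ((x₀ : Ω) * u)⁻¹ * (v * y * v⁻¹) * v := by rw [h1]
        _ = ((x₀ : Ω) * u)⁻¹ * v * y := by group
    have h2 := centralizerIn_le_of_isCentric hEc hc
    have h3 : u⁻¹ * (x₀ : Ω) * u ∈ E := by
      simpa using (Subgroup.mem_normalizer_iff.1 (inv_mem hun) _).1 x₀.2
    have h4 := E.mul_mem h3 h2
    simpa [mul_assoc] using h4
  set y₀ : E := ⟨u⁻¹ * v, hvE⟩ with hy₀
  have hy₀P : (y₀ : Ω) ∈ P := P.mul_mem (P.inv_mem huP) hvP
  -- a square root
  obtain ⟨n₀, hn₀⟩ : Odd (orderOf y₀) := by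
    obtain ⟨n, hn⟩ := hEp.exists_orderOf_eq_pow y₀
    exact hn ▸ (hp.odd_of_ne_two hp2).pow
  set y := y₀ ^ (n₀ + 1) with hy
  have hy2 : y * y = y₀ := by
    rw [hy, ← pow_add, show n₀ + 1 + (n₀ + 1) = orderOf y₀ + 1 by omega, pow_succ,
      pow_orderOf_eq_one, one_mul]
  have hyP : (y : Ω) ∈ P := P.pow_mem hy₀P _
  have hxR : u * (y : Ω) ∈ R := R.mul_mem huR (Subgroup.mem_sup_left y.2)
  have hψx : ψ ⟨u * (y : Ω), hxR⟩ = u * (y : Ω) := by
    rw [show (⟨u * (y : Ω), hxR⟩ : R) = ⟨u, huR⟩ * ⟨(y : Ω), Subgroup.mem_sup_left y.2⟩ from rfl,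
      map_mul, hag y, ← hv]
    show v * ((τ y : E) : Ω) = u * (y : Ω)
    rw [hYinv y hyP, show v = u * (y₀ : Ω) by rw [hy₀]; simp, ← hy2]
    simp [mul_assoc]
  obtain ⟨e₁, he₁, hpe⟩ := pow_mem_mul_of_normalizes hun y.2 p
  have hxpE : (u * (y : Ω)) ^ p ∈ E := hpe ▸ E.mul_mem hup he₁
  have hxp : (u * (y : Ω)) ^ p = 1 := by
    have h1 := hfpf ⟨_, hxpE⟩ (P.pow_mem (P.mul_mem huP hyP) p) (Subtype.ext ((hag _).symm.trans ?_))
    · exact congrArg Subtype.val h1
    · rw [show (⟨(u * (y : Ω)) ^ p, _⟩ : R) = ⟨u * (y : Ω), hxR⟩ ^ p from rfl, map_pow, hψx]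
  have hWeq : W.map E.subtype = K := by
    refine Subgroup.eq_of_le_of_card_ge hWK ?_
    rw [Subgroup.card_map_of_injective (Subgroup.subtype_injective E),
      (exists_coord (W := W) (fun w hw => hw.2) hWcard haW hbW ha1 hαa).1]
    exact hK
  obtain ⟨w, -, hw⟩ := hWeq.ge (hKm _ (P.mul_mem huP hyP) hxp)
  have hxE : u * (y : Ω) ∈ E := hw ▸ w.2
  exact huE (by simpa using E.mul_mem hxE (E.inv_mem y.2))

end CfsgLib.FusionMetacyclic
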