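import Cfsg.Agent.Lib.FusionMetacyclic.Layer
import Cfsg.Agent.Lib.FusionMetacyclic.TwoGroups
import Cfsg.Agent.Lib.FusionMetacyclic.OddNormal
import Cfsg.Agent.S1896
import Mathlib.Data.ZMod.Basic

/-!
# Strongly closed metacyclic 2-subgroups
-/

set_option autoImplicit false

namespace CfsgLib.FusionMetacyclic

open Cfsg Cfsg.FusionSystem CfsgLib.Fusion

universe u

variable {Ω : Type u} [Group Ω] {S : Subgroup Ω} {F : Cfsg.FusionSystem S}
variable {E P : Subgroup Ω}

theorem zmod_sq (e : ℕ) (he : 2 ≤ e) (x : ZMod (2 ^ e)) (h : x + x = 0) :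
    ∃ z : ZMod (2 ^ e), z + z = x := by
  haveI : NeZero (2 ^ e) := ⟨pow_ne_zero e (by norm_num)⟩
  refine ⟨((x.val / 2 : ℕ) : ZMod (2 ^ e)), ?_⟩
  have h1 : 2 ^ e ∣ x.val + x.val := by
    rw [← ZMod.natCast_eq_zero_iff, Nat.cast_add, ZMod.natCast_val, ZMod.cast_id]
    exact h
  have h2 : 2 ∣ x.val := by
    have h4 : 2 * 2 ∣ 2 * x.val := by
      rw [two_mul x.val]
      exact (show 2 * 2 ∣ 2 ^ e from pow_dvd_pow 2 he).trans h1
    exact Nat.dvd_of_mul_dvd_mul_left (by norm_num) h4
  rw [← Nat.cast_add, show x.val / 2 + x.val / 2 = x.val by omega, ZMod.natCast_val, ZMod.cast_id]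

theorem homocyclic_facts {G : Type*} [Group G] {e : ℕ}
    (f : G ≃* Multiplicative (ZMod (2 ^ e)) × Multiplicative (ZMod (2 ^ e))) :
    Nat.card G = 2 ^ e * 2 ^ e ∧ (∀ a b : G, a * b = b * a) ∧ (∀ a : G, a ^ 2 ^ e = 1) ∧
      (2 ≤ e → ∀ w : G, w ^ 2 = 1 → ∃ z : G, z ^ 2 = w) := by
  refine ⟨?_, fun a b => f.injective (by rw [map_mul, map_mul, mul_comm]), fun a => ?_, ?_⟩
  · rw [Nat.card_congr f.toEquiv, Nat.card_prod, Nat.card_congr Multiplicative.toAdd, Nat.card_zmod]
  · refine f.injective ?_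
    rw [map_pow, map_one]
    have key : ∀ x : Multiplicative (ZMod (2 ^ e)), x ^ 2 ^ e = 1 := fun x => by
      refine Multiplicative.toAdd.injective ?_
      rw [toAdd_pow, toAdd_one, nsmul_eq_mul, ZMod.natCast_self, zero_mul]
    exact Prod.ext (key _) (key _)
  · intro he w hw
    have h1 : f w ^ 2 = 1 := by rw [← map_pow, hw, map_one]
    have key : ∀ x : Multiplicative (ZMod (2 ^ e)), x ^ 2 = 1 → ∃ z, z ^ 2 = x := fun x hx => by
      obtain ⟨z, hz⟩ := zmod_sq e he x.toAdd (by
        have h2 := congrArg Multiplicative.toAdd hx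
        rwa [pow_two, toAdd_mul, toAdd_one] at h2)
      exact ⟨Multiplicative.ofAdd z, by rw [pow_two, ← ofAdd_add, hz, ofAdd_toAdd]⟩
    obtain ⟨z₁, hz₁⟩ := key _ (congrArg Prod.fst h1)
    obtain ⟨z₂, hz₂⟩ := key _ (congrArg Prod.snd h1)
    exact ⟨f.symm (z₁, z₂), f.injective (by
      rw [map_pow, MulEquiv.apply_symm_apply]; exact Prod.ext hz₁ hz₂)⟩

/-- An exception: dihedral, quasi-dihedral or quaternion, of order at least 8. -/
def IsExceptional (X : Type*) [Group X] : Prop :=
  (∃ k : ℕ, Nonempty (X ≃* DihedralGroup (2 ^ (k + 2)))) ∨ Cfsg.IsQuasiDihedral X ∨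
    (∃ k : ℕ, Nonempty (X ≃* QuaternionGroup (2 ^ (k + 1))))

/-- A strongly closed metacyclic 2-subgroup, not exceptional, lies in every essential subgroup. -/
theorem le_essential_two [Finite S] [Fact (Nat.Prime 2)] (hS : IsPGroup 2 S) (hF : F.IsSaturated 2)
    (hP : F.StronglyClosed P) (hm : Cfsg.IsMetacyclic P) (hne : ¬ IsExceptional P)
    (hE : F.IsEssential 2 E) : P ≤ E := by
  classical
  by_contra hPE
  have hEc := hE.1
  have hES := hEc.1
  have hrad := isRadical_of_isEssential hS hF hE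
  have : Finite E := finite_of_le hES
  have : Finite P := finite_of_le hP.1
  have : Finite (MulAut E) := finite_mulAut
  have hEp : IsPGroup 2 E := hS.to_le hES
  have hPp : IsPGroup 2 P := hS.to_le hP.1
  obtain ⟨u, huP, huE, hun, hu2⟩ := exists_step hS hP hES hPE
  let YP : Subgroup P := E.subgroupOf P
  let eY : P.subgroupOf E ≃* YP :=
    { toFun := fun y => ⟨⟨((y : E) : Ω), y.2⟩, (y : E).2⟩
      invFun := fun y => ⟨⟨((y : P) : Ω), y.2⟩, (y : P).2⟩
      left_inv := fun _ => rfl
      right_inv := fun _ => rfl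
      map_mul' := fun _ _ => rfl }
  have hYPE : ∀ c : P, (c : Ω) ∈ Subgroup.normalizer (E : Set Ω) →
      c ∈ Subgroup.normalizer (YP : Set P) := by
    intro c hc
    rw [Subgroup.mem_normalizer_iff]
    intro h
    exact (Subgroup.mem_normalizer_iff.1 hc (h : Ω))
  -- centralizers
  have hker : (res F E P).ker.map (layer F E P).subtype ≤ Cfsg.Inn E := by
    refine le_inn hP hrad _ (Subgroup.map_subtype_le _) ?_
      ((isPGroup_ker_res hS hES).map _)
    rintro γ hγ _ ⟨α, hα, rfl⟩
    have hk : (⟨γ, hγ⟩ : layer F E P) * α * (⟨γ, hγ⟩ : layer F E P)⁻¹ ∈ (res F E P).ker :=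
      (MonoidHom.normal_ker (res F E P)).conj_mem α hα ⟨γ, hγ⟩
    exact Subgroup.mem_map.2 ⟨_, hk, by simp only [map_mul, map_inv, Subgroup.coe_subtype]⟩
  have hcent : Subgroup.centralizer (YP : Set P) ≤ YP := by
    let C : Subgroup Ω := (Subgroup.centralizer (YP : Set P)).map P.subtype
    have hCP : C ≤ P := Subgroup.map_subtype_le _
    have hC : ∀ c, c ∈ C ↔ c ∈ P ∧ ∀ y ∈ E, y ∈ P → y * c = c * y := by
      intro c
      constructor
      · rintro ⟨c, hc, rfl⟩
        exact ⟨c.2, fun y hy hyP => congrArg Subtype.val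
          (Subgroup.mem_centralizer_iff.1 hc ⟨y, hyP⟩ hy)⟩
      · rintro ⟨hcP, hc⟩
        exact ⟨⟨c, hcP⟩, Subgroup.mem_centralizer_iff.2 fun y hy => Subtype.ext (hc y hy y.2), rfl⟩
    have hEC : E ≤ Subgroup.normalizer (C : Set Ω) := by
      have key : ∀ g ∈ E, ∀ c ∈ C, g * c * g⁻¹ ∈ C := by
        intro g hg c hc
        obtain ⟨hcP, hcc⟩ := (hC c).1 hc
        refine (hC _).2 ⟨conj_mem_of_mem_normalizer (stronglyClosed_le_normalizer hP (hES hg)) hcP,
          fun y hy hyP => ?_⟩
        have h1 : g⁻¹ * y * g ∈ P := by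
          have := conj_mem_of_mem_normalizer
            (stronglyClosed_le_normalizer hP (S.inv_mem (hES hg))) hyP
          simpa using this
        have h2 := hcc _ (E.mul_mem (E.mul_mem (E.inv_mem hg) hy) hg) h1
        calc y * (g * c * g⁻¹) = g * ((g⁻¹ * y * g) * c) * g⁻¹ := by simp [mul_assoc]
          _ = g * (c * (g⁻¹ * y * g)) * g⁻¹ := by rw [h2]
          _ = g * c * g⁻¹ * y := by simp [mul_assoc]
      intro g hg
      exact Subgroup.mem_normalizer_iff.2 fun c =>
        ⟨key g hg c, fun h => by simpa [mul_assoc] using key g⁻¹ (E.inv_mem hg) _ h⟩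
    have hT : E ⊔ C ≤ S := sup_le hES (hCP.trans hP.1)
    have : Finite ↥(E ⊔ C) := finite_of_le hT
    have hCE : C ≤ E := by
      refine le_of_normalizer_inf_le (p := 2) (hS.to_le hT) le_sup_left le_sup_right
        (sup_le hEC Subgroup.le_normalizer) fun c hc hcn => ?_
      obtain ⟨hcP, hcc⟩ := (hC c).1 hc
      by_contra hcE
      refine conjAut_not_inn hEc (hP.1 hcP) hcE hcn
        (hker ⟨⟨_, conjAut_mem_layer hP hES hcP hcn⟩, ?_, rfl⟩)
      refine MulEquiv.ext fun y => Subtype.ext (Subtype.ext ?_)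
      show c * ((y : E) : Ω) * c⁻¹ = ((y : E) : Ω)
      rw [← hcc _ (y : E).2 y.2, mul_inv_cancel_right]
    exact fun c hc => hCE ⟨c, hc, rfl⟩
  have h8 : 4 ≤ Nat.card YP → 8 ≤ Nat.card P := fun h => by
    have hlt : Nat.card YP < Nat.card P := by
      refine lt_of_not_ge fun hge => ?_
      have htop : YP = ⊤ := Subgroup.eq_top_of_le_card _ hge
      exact huE (show (⟨u, huP⟩ : P) ∈ YP from htop ▸ Subgroup.mem_top _)
    obtain ⟨a, ha⟩ := IsPGroup.iff_card.1 hPp
    by_contra hcon
    rw [ha] at hlt hcon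
    have h3 : a ≤ 2 := by
      by_contra h4
      exact hcon ((show 8 = 2 ^ 3 by norm_num) ▸ Nat.pow_le_pow_right (by norm_num) (by omega))
    have : 2 ^ a ≤ 2 ^ 2 := Nat.pow_le_pow_right (by norm_num) h3
    omega
  have hYm : Cfsg.IsMetacyclic (P.subgroupOf E) :=
    isMetacyclic_of_injective (YP.subtype.comp eY.toMonoidHom)
      (YP.subtype_injective.comp eY.injective) hm
  rcases Cfsg.Agent.S1896.result (hEp.to_subgroup _) hYm
      (res_not_isPGroup hS hP hEc hrad hPE) with hq | ⟨e, ⟨f⟩⟩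
  · -- quaternion
    obtain ⟨q⟩ := hq
    obtain ⟨A, hA, hAc⟩ := exists_self_centralizing_of_quaternion hm (eY.symm.trans q) hcent
    refine hne (forms_of_self_centralizing hPp (h8 ?_) hA hAc)
    rw [Nat.card_congr (eY.symm.trans q).toEquiv, Nat.card_eq_fintype_card, QuaternionGroup.card]
    norm_num
  · obtain ⟨hcard, hcomm, hexp, hsq⟩ := homocyclic_facts f
    have hYcard : Nat.card YP = 2 ^ e * 2 ^ e := (Nat.card_congr eY.toEquiv).symm.trans hcard
    have hYcomm : ∀ a ∈ YP, ∀ b ∈ YP, a * b = b * a := fun a ha b hb => by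
      have := hcomm (eY.symm ⟨a, ha⟩) (eY.symm ⟨b, hb⟩)
      exact Subtype.ext (congrArg (fun y : P.subgroupOf E => ((y : E) : Ω)) this)
    rcases Nat.lt_or_ge e 2 with he | he
    · rcases (show e = 0 ∨ e = 1 by omega) with rfl | rfl
      · refine res_not_isPGroup hS hP hEc hrad hPE fun a => ⟨0, ?_⟩
        have h1 : Subsingleton (P.subgroupOf E) :=
          (Nat.card_eq_one_iff_unique.1 (by simpa using hcard)).1
        rw [pow_zero, pow_one]
        exact MulEquiv.ext fun y => Subsingleton.elim _ _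
      · refine hne (forms_of_self_centralizing hPp (h8 ?_) (A := YP) ?_ ?_)
        · rw [hYcard]; norm_num
        · rw [hYcard]; norm_num
        · exact le_antisymm hcent fun a ha =>
            Subgroup.mem_centralizer_iff.2 fun b hb => hYcomm b hb a ha
    · -- `u` fixes all involutions of `E ∩ P`
      have hfix : ∀ w : E, (w : Ω) ∈ P → w ^ 2 = 1 → conjAut E u hun w = w := by
        intro w hwP hw
        refine Subtype.ext ?_
        have hexp' : ∀ a ∈ YP, a ^ 2 ^ e = 1 := fun a ha => by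
          have := congrArg (fun y => ((eY y : YP) : P)) (hexp (eY.symm ⟨a, ha⟩))
          simpa using this
        have hsq' : ∀ x ∈ YP, x ^ 2 = 1 → ∃ z ∈ YP, z ^ 2 = x := fun x hx hx2 => by
          obtain ⟨z, hz⟩ := hsq he (eY.symm ⟨x, hx⟩) (by
            rw [← map_pow, show (⟨x, hx⟩ : YP) ^ 2 = 1 from Subtype.ext hx2, map_one])
          refine ⟨eY z, (eY z).2, ?_⟩
          have := congrArg (fun y => ((eY y : YP) : P)) hz
          simpa using this
        have hfx := congrArg Subtype.val (fix_involution hPp hm he hYcard hYcomm hexp' hsq'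
          (u := (⟨u, huP⟩ : P)) (hYPE _ hun) hu2 (w := (⟨(w : Ω), hwP⟩ : P)) w.2
          (Subtype.ext (congrArg Subtype.val hw :)))
        exact hfx
      let L : Subgroup (MulAut E) :=
        { carrier := {α | α ∈ layer F E P ∧ ∀ w : E, (w : Ω) ∈ P → w ^ 2 = 1 → α w = w}
          one_mem' := ⟨one_mem _, fun _ _ _ => rfl⟩
          mul_mem' := by
            rintro α β ⟨hα, hα'⟩ ⟨hβ, hβ'⟩
            exact ⟨mul_mem hα hβ, fun w h h' => by rw [MulAut.mul_apply, hβ' w h h', hα' w h h']⟩
          inv_mem' := by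
            rintro α ⟨hα, hα'⟩
            refine ⟨inv_mem hα, fun w h h' => ?_⟩
            conv_lhs => rw [← hα' w h h']
            exact MulAut.inv_apply_self _ _ _ }
      have hLp : IsPGroup 2 L := by
        refine CfsgLib.Fusion.Stability.isPGroup_of_coprime_eq_one fun a ha => Subtype.ext ?_
        have hord : (orderOf (a : MulAut E)).Coprime 2 := by rwa [Subgroup.orderOf_coe]
        have hfixY : ∀ (k : ℕ) (y : E), (y : Ω) ∈ P → y ^ 2 ^ k = 1 → (a : MulAut E) y = y := by
          intro k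
          induction k with
          | zero =>
            intro y _ h
            rw [pow_zero, pow_one] at h
            rw [h, map_one]
          | succ k ih =>
            intro y hyP h
            refine CfsgLib.Fusion.Stability.eq_self_of_disp_fixed hEp (a : MulAut E) hord ?_
            refine a.2.2 _ (a.2.1.2 y) ?_
            have h1 := ih (y ^ 2) (P.pow_mem hyP 2) (by rw [← pow_mul, ← pow_succ']; exact h)
            have hc : Commute y⁻¹ ((a : MulAut E) y) := by
              refine (Commute.inv_left ?_)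
              have := hcomm ⟨y, hyP⟩ ⟨(a : MulAut E) y, apply_layer_mem a.2.1 hyP⟩
              exact congrArg Subtype.val this
            rw [hc.mul_pow, ← map_pow, h1, inv_pow, inv_mul_cancel]
        refine MulEquiv.ext fun z => CfsgLib.Fusion.Stability.eq_self_of_disp_fixed hEp _ hord ?_
        exact hfixY e _ (a.2.1.2 z) (congrArg Subtype.val (hexp (⟨z⁻¹ * (a : MulAut E) z, a.2.1.2 z⟩ : P.subgroupOf E)) :)
      refine conjAut_not_inn hEc (hP.1 huP) huE hun
        (le_inn hP hrad L (fun _ h => h.1) ?_ hLp ⟨conjAut_mem_layer hP hES huP hun, hfix⟩)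
      intro γ hγ α hα
      refine ⟨mul_mem (mul_mem hγ hα.1) (inv_mem hγ), fun w hw hw2 => ?_⟩
      show γ (α (γ⁻¹ w)) = w
      rw [hα.2 _ (apply_layer_mem_symm hγ hw) (by rw [← map_pow, hw2, map_one]),
        MulAut.apply_inv_self]

/-- A strongly closed metacyclic 2-subgroup that is not exceptional is normal. -/
theorem isNormal_two [Finite S] [Fact (Nat.Prime 2)] (hS : IsPGroup 2 S) (hF : F.IsSaturated 2)
    (hP : F.StronglyClosed P) (hm : Cfsg.IsMetacyclic P) (hne : ¬ IsExceptional P) : F.IsNormal P :=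
  isNormal_of_le_essential hS hF hP fun _ hE => le_essential_two hS hF hP hm hne hE

end CfsgLib.FusionMetacyclic
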