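import Cfsg.Agent.Lib.FusionMetacyclic.NotSupersoluble
import Cfsg.Agent.Lib.TwoFusion.QuasiDihedral
import Cfsg.Agent.Lib.TwoFusion.DihedralIso
import Cfsg.Agent.Lib.TwoFusion.GLTwoSylow
import Cfsg.Agent.Lib.Linear.SL2Quaternion
import Mathlib.NumberTheory.LSeries.PrimesInAP

/-!
# Realizing groups for dihedral, semidihedral and generalized quaternion groups
-/

set_option autoImplicit false
set_option linter.style.haveILetI false

namespace CfsgLib.FusionMetacyclic

open CfsgLib.TwoFusion Matrix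
open scoped MatrixGroups

/-! ### Semidihedral groups of the same order are isomorphic -/

theorem qd_mulEquiv {A B : Type*} [Group A] [Group B] [Finite A] [Finite B]
    (D : QDGens A) (E : QDGens B) (hp : D.p = E.p) : Nonempty (A ≃* B) := by
  classical
  have hP : D.P = E.P := by rw [D.hP, E.hP, hp]
  have hex : ∀ s : A, ∃ t : B, ∀ i : ℤ,
      (s = D.x ^ i → t = E.x ^ i) ∧ (s = D.x ^ i * D.y → t = E.x ^ i * E.y) := by
    intro s
    obtain ⟨j, hj | hj⟩ := D.normalForm s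
    · refine ⟨E.x ^ j, fun i => ⟨fun h => ?_, fun h => absurd (hj.symm.trans h) (D.zpow_ne_zpow_mul_y j i)⟩⟩
      rw [E.zpow_eq_iff, ← hP, ← D.zpow_eq_iff]
      exact hj.symm.trans h
    · refine ⟨E.x ^ j * E.y, fun i => ⟨fun h => absurd (h.symm.trans hj) (D.zpow_ne_zpow_mul_y i j), fun h => ?_⟩⟩
      rw [E.zy_eq_iff, ← hP, ← D.zy_eq_iff]
      exact hj.symm.trans h
  choose φ hφ using hex
  have hx : ∀ i : ℤ, φ (D.x ^ i) = E.x ^ i := fun i => (hφ _ i).1 rfl
  have hy : ∀ i : ℤ, φ (D.x ^ i * D.y) = E.x ^ i * E.y := fun i => (hφ _ i).2 rfl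
  have hmul : ∀ s t, φ (s * t) = φ s * φ t := by
    intro s t
    obtain ⟨i, rfl | rfl⟩ := D.normalForm s <;> obtain ⟨j, rfl | rfl⟩ := D.normalForm t
    · rw [← _root_.zpow_add, hx, hx, hx, _root_.zpow_add]
    · rw [D.mul_zy, hy, hx, hy, E.mul_zy]
    · rw [D.zy_mul, hy, hx, hy, E.zy_mul, hP]
    · rw [D.zy_mul_zy, hx, hy, hy, E.zy_mul_zy, hP]
  refine ⟨MulEquiv.ofBijective (MonoidHom.mk' φ hmul) ⟨(injective_iff_map_eq_one _).2 ?_, ?_⟩⟩
  · intro s hs
    change φ s = 1 at hs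
    obtain ⟨i, rfl | rfl⟩ := D.normalForm s
    · rw [hx, E.zpow_eq_one_iff, ← hP] at hs
      exact D.zpow_eq_one_iff.2 hs
    · rw [hy, ← zpow_zero E.x] at hs
      exact absurd hs.symm (E.zpow_ne_zpow_mul_y 0 i)
  · intro b
    obtain ⟨i, rfl | rfl⟩ := E.normalForm b
    · exact ⟨_, hx i⟩
    · exact ⟨_, hy i⟩

/-- The quotient of a semidihedral group by a central involution is dihedral. -/
theorem qd_image_dihedral {A Q : Type*} [Group A] [Finite A] [Group Q] (D : QDGens A)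
    (π : A →* Q) (hπ : Function.Surjective π) {z : A} (hz : orderOf z = 2)
    (hzc : ∀ a, z * a = a * z) (hker : ∀ a, π a = 1 ↔ a = 1 ∨ a = z) :
    Nonempty (Q ≃* DihedralGroup (2 ^ (D.p + 2))) := by
  have hzc' : z = D.x ^ (4 * D.P) := by
    obtain ⟨i, hi | hi⟩ := D.normalForm z
    · have h2 : D.x ^ (i + i) = 1 := by
        rw [_root_.zpow_add, ← hi, ← pow_two, ← hz, pow_orderOf_eq_one]
      rw [D.zpow_eq_one_iff] at h2
      obtain ⟨m, hm⟩ := h2
      have hmo : ¬ 2 ∣ m := by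
        rintro ⟨k, rfl⟩
        have h1 : z = 1 := by
          rw [hi, D.zpow_eq_one_iff]
          exact ⟨k, by linarith⟩
        simp [h1] at hz
      rw [hi, D.zpow_eq_iff]
      obtain ⟨k, rfl⟩ : ∃ k, m = 2 * k + 1 := ⟨m / 2, by omega⟩
      exact ⟨k, by linarith⟩
    · exfalso
      have h1 := (hzc (D.x ^ (1 : ℤ))).symm
      rw [hi, D.commute_zpow_zy_iff] at h1
      have hP := D.P_pos
      have := Int.le_of_dvd one_pos h1
      omega
  set a := π D.x with ha
  set b := π D.y with hb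
  have hao : orderOf a = 2 ^ (D.p + 2) := by
    refine orderOf_eq_prime_pow (p := 2) (n := D.p + 1) ?_ ?_
    · intro h
      rw [ha, ← map_pow, hker, hzc', ← zpow_natCast] at h
      rw [D.zpow_eq_one_iff, D.zpow_eq_iff] at h
      have hP := D.P_pos
      push_cast [pow_succ, ← D.hP] at h
      rcases h with h | h
      · have := Int.le_of_dvd (by linarith) h
        linarith
      · have h' : 8 * D.P ∣ 2 * D.P := by
          have h3 := dvd_neg.2 h
          rw [show -(D.P * 2 - 4 * D.P) = 2 * D.P by ring] at h3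
          exact h3
        have := Int.le_of_dvd (by linarith) h'
        linarith
    · rw [ha, ← map_pow, hker, hzc']
      right
      rw [← zpow_natCast]
      congr 1
      rw [D.hP]; push_cast; ring
  have hba : b * a * b⁻¹ = a⁻¹ := by
    rw [ha, hb, ← map_inv, ← map_mul, ← map_mul, D.hrel]
    have h1 : π (D.x ^ (4 * D.P)) = 1 := (hker _).2 (Or.inr hzc'.symm)
    rw [_root_.zpow_sub, map_mul, h1, one_mul, map_inv, zpow_one]
  have hnot : b ∉ Subgroup.zpowers a := by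
    rintro ⟨i, hi⟩
    have h1 : π ((D.x ^ i)⁻¹ * D.y) = 1 := by
      rw [map_mul, map_inv, map_zpow]
      exact inv_mul_eq_one.2 hi
    apply D.y_not_mem
    rcases (hker _).1 h1 with h | h
    · rw [inv_mul_eq_one] at h
      exact ⟨i, h⟩
    · rw [hzc', inv_mul_eq_iff_eq_mul, ← _root_.zpow_add] at h
      exact ⟨_, h.symm⟩
  obtain ⟨e⟩ := exists_dihedral_mulEquiv (a := a) (b := b) (Nat.two_pow_pos (D.p + 2)) hao
    (by rw [hb, ← map_mul, D.y_mul_y, map_one]) hba hnot ⊤ (fun g => by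
      simp only [Subgroup.mem_top, true_iff]
      obtain ⟨s, rfl⟩ := hπ g
      obtain ⟨i, rfl | rfl⟩ := D.normalForm s
      · exact ⟨i, Or.inl (map_zpow π _ _)⟩
      · refine ⟨-i, Or.inr ?_⟩
        rw [map_mul, map_zpow, conj_inv_zpow hba, neg_neg])
  exact ⟨(Subgroup.topEquiv.symm.trans e)⟩

/-! ### An element of order three normalizing a quaternion group -/

theorem toMat_injective {F : Type*} [Field F] {A B : SL(2, F)}
    (h : (A : Matrix (Fin 2) (Fin 2) F) = (B : Matrix (Fin 2) (Fin 2) F)) : A = B :=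
  Subtype.ext h

theorem exists_triple (F : Type*) [Field F] [Fintype F] (h2 : (2 : F) ≠ 0) :
    ∃ i j g : SL(2, F), i * i = -1 ∧ j * j = -1 ∧ j * i * j⁻¹ = i⁻¹ ∧ g ^ 3 = 1 ∧
      g * i * g⁻¹ = j ∧ g * j * g⁻¹ = i * j ∧ j ≠ i ∧ j ≠ -i := by
  obtain ⟨a, b, hab⟩ := CfsgLib.Linear.exists_sq_add_sq_eq_neg_one (F := F) h2
  obtain ⟨t, ht2⟩ : ∃ t : F, t * 2 = -1 :=
    ⟨-(2⁻¹), by rw [neg_mul, inv_mul_cancel₀ h2]⟩
  let i : SL(2, F) := ⟨!![0, 1; -1, 0], by simp [det_fin_two_of]⟩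
  let j : SL(2, F) := ⟨!![a, b; b, -a], by rw [det_fin_two_of]; linear_combination (-1) * hab⟩
  let g : SL(2, F) := ⟨!![t * (1 + a + b), t * (1 + b - a); t * (-1 + b - a), t * (1 - a - b)],
    by rw [det_fin_two_of]; linear_combination (-2 * t ^ 2) * hab + (t * 2 - 1) * ht2⟩
  have hiv : i.1 = !![0, 1; -1, 0] := rfl
  have hjv : j.1 = !![a, b; b, -a] := rfl
  have hgv : g.1 = !![t * (1 + a + b), t * (1 + b - a); t * (-1 + b - a), t * (1 - a - b)] := rfl
  have hii : i * i = -1 := by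
    apply toMat_injective
    show i.1 * i.1 = -(1 : Matrix (Fin 2) (Fin 2) F)
    rw [hiv]
    ext k l; fin_cases k <;> fin_cases l <;> simp
  have hjj : j * j = -1 := by
    apply toMat_injective
    show j.1 * j.1 = -(1 : Matrix (Fin 2) (Fin 2) F)
    rw [hjv]
    ext k l; fin_cases k <;> fin_cases l <;> simp <;>
      first
      | ring1
      | linear_combination hab
  have hiinv : i⁻¹ = -i := inv_eq_of_mul_eq_one_right (by rw [mul_neg, hii, neg_neg])
  have hanti : j * i = -i * j := by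
    apply toMat_injective
    show j.1 * i.1 = -i.1 * j.1
    rw [hiv, hjv]
    ext k l; fin_cases k <;> fin_cases l <;> simp
  have hgi : g * i = j * g := by
    apply toMat_injective
    show g.1 * i.1 = j.1 * g.1
    rw [hiv, hjv, hgv]
    ext k l
    fin_cases k <;> fin_cases l <;> simp <;>
      first
      | ring1
      | linear_combination t * hab
      | linear_combination (-t) * hab
      | linear_combination (2 * t) * hab
      | linear_combination (-2 * t) * hab
  have hgj : g * j = i * j * g := by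
    apply toMat_injective
    show g.1 * j.1 = i.1 * j.1 * g.1
    rw [hiv, hjv, hgv]
    ext k l
    fin_cases k <;> fin_cases l <;> simp <;>
      first
      | ring1
      | linear_combination t * hab
      | linear_combination (-t) * hab
      | linear_combination (2 * t) * hab
      | linear_combination (-2 * t) * hab
  have hg3 : g ^ 3 = 1 := by
    have hsq : g.1 * g.1 = -(g.1) - 1 := by
      rw [hgv]
      ext k l
      fin_cases k <;> fin_cases l <;> simp
      · linear_combination (2 * t ^ 2) * hab + (t * (1 + a + b) - t * 2 + 1) * ht2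
      · linear_combination (t * (1 + b - a)) * ht2
      · linear_combination (t * (-1 + b - a)) * ht2
      · linear_combination (2 * t ^ 2) * hab + (t * (1 - a - b) - t * 2 + 1) * ht2
    apply toMat_injective
    show g.1 ^ 3 = (1 : Matrix (Fin 2) (Fin 2) F)
    rw [pow_succ, pow_two, hsq, sub_mul,
      neg_mul, hsq, one_mul]
    abel
  refine ⟨i, j, g, hii, hjj, ?_, hg3, ?_, ?_, ?_, ?_⟩
  · rw [mul_inv_eq_iff_eq_mul, hiinv, hanti]
  · rw [mul_inv_eq_iff_eq_mul, hgi]
  · rw [mul_inv_eq_iff_eq_mul, hgj]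
  · intro h
    have h01 := congrArg (fun M : SL(2, F) => M.1 0 1) h
    have h10 := congrArg (fun M : SL(2, F) => M.1 1 0) h
    simp [hiv, hjv] at h01 h10
    exact h2 (by linear_combination h10 - h01)
  · intro h
    have h01 := congrArg (fun M : SL(2, F) => M.1 0 1) h
    have h10 := congrArg (fun M : SL(2, F) => M.1 1 0) h
    simp [hiv, hjv] at h01 h10
    exact h2 (by linear_combination h01 - h10)

/-- A witness for an image of `SL₂`. -/
theorem witness_of_hom {F : Type*} [Field F] [Fintype F] (h2 : (2 : F) ≠ 0) {G : Type} [Group G]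
    [Finite G] (π : SL(2, F) →* G) (hker : ∀ u, π u = 1 → u = 1 ∨ u = -1) (T : Sylow 2 G) :
    HasWitness (T : Subgroup G) := by
  obtain ⟨i, j, g, hii, hjj, hji, hg3, hgi, hgj, hne, hne'⟩ := exists_triple F h2
  have hi4 : i ^ (2 * 2) = 1 := by rw [pow_mul, pow_two i, hii, pow_two, neg_mul_neg, one_mul]
  obtain ⟨f, hfa, hfx⟩ := CfsgLib.Linear.exists_quaternionGroup_hom 2 i j hi4
    (by rw [hjj, pow_two, hii]) hji
  have hV : IsPGroup 2 (π.comp f).range :=
    (IsPGroup.of_card (n := 3) (by rw [Nat.card_eq_fintype_card, QuaternionGroup.card]; norm_num) :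
      IsPGroup 2 (QuaternionGroup 2)).of_surjective _ (π.comp f).rangeRestrict_surjective
  have hmi : i ∈ f.range := ⟨.a 1, by rw [hfa, ZMod.val_one'' (by norm_num), pow_one]⟩
  have hmj : j ∈ f.range := ⟨.xa 0, by rw [hfx, ZMod.val_zero, pow_zero, mul_one]⟩
  have hconj : ∀ u ∈ f.range, g * u * g⁻¹ ∈ f.range := by
    have hci : ∀ n : ℕ, g * i ^ n * g⁻¹ = j ^ n := fun n => by rw [← conj_pow, hgi]
    rintro _ ⟨c | c, rfl⟩
    · rw [hfa, hci]; exact pow_mem hmj _
    · rw [hfx, ← conj_mul, hci, hgj]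
      exact mul_mem (mul_mem hmi hmj) (pow_mem hmj _)
  refine ⟨G, inferInstance, inferInstance, T, (π.comp f).range, π g, ⟨MulEquiv.refl _⟩,
    by rw [← map_pow, hg3, map_one], hV, ?_, π i, ?_, ?_⟩
  · rintro _ ⟨c, rfl⟩
    obtain ⟨d, hd⟩ := hconj (f c) ⟨c, rfl⟩
    exact ⟨d, by rw [MonoidHom.comp_apply, MonoidHom.comp_apply, hd, map_mul, map_mul, map_inv]⟩
  · obtain ⟨d, hd⟩ := hmi
    exact ⟨d, by rw [MonoidHom.comp_apply, hd]⟩
  · intro h
    have h1 : π (j * i⁻¹) = 1 := by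
      rw [map_mul, map_inv, mul_inv_eq_one, ← hgi, map_mul, map_mul, map_inv]
      exact h
    rcases hker _ h1 with h | h
    · exact hne (mul_inv_eq_one.1 h)
    · rw [mul_inv_eq_iff_eq_mul, neg_one_mul] at h
      exact hne' h

/-! ### The three families -/

theorem exists_field_data (b : ℕ) (hb : 2 ≤ b) : ∃ q : ℕ, q.Prime ∧ q % 4 = 3 ∧
    ∃ r s, Odd r ∧ Odd s ∧ q + 1 = 2 ^ b * r ∧ q - 1 = 2 * s := by
  have h4 : 4 ∣ 2 ^ b := pow_dvd_pow 2 hb
  have hpos : 4 ≤ 2 ^ b := Nat.le_of_dvd (by positivity) h4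
  have hco : (2 ^ b - 1).Coprime (2 ^ (b + 1)) := by
    refine Nat.Coprime.pow_right _ ?_
    rw [Nat.coprime_two_right, Nat.odd_iff]
    omega
  obtain ⟨q, -, hq, hmod⟩ := Nat.forall_exists_prime_gt_and_modEq 1
    (q := 2 ^ (b + 1)) (a := 2 ^ b - 1) (by positivity) hco
  have h1 : q % 2 ^ (b + 1) = 2 ^ b - 1 := by
    rw [hmod, Nat.mod_eq_of_lt]
    rw [pow_succ]
    omega
  have hdiv := Nat.div_add_mod q (2 ^ (b + 1))
  set k := q / 2 ^ (b + 1)
  rw [h1] at hdiv
  have hq1 : q + 1 = 2 ^ b * (2 * k + 1) := by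
    rw [mul_add, mul_one, ← mul_assoc, ← pow_succ]
    omega
  obtain ⟨c, hc⟩ : 4 ∣ q + 1 := hq1 ▸ h4.mul_right _
  exact ⟨q, hq, by omega, 2 * k + 1, (q - 1) / 2, odd_two_mul_add_one k, Nat.odd_iff.2 (by omega),
    hq1, by omega⟩

theorem witness_quaternion (k : ℕ) (hk : 1 ≤ k) : HasWitness (QuaternionGroup (2 ^ k)) := by
  obtain ⟨q, hq, h4, r, s, hr, hs, hq1, hq2⟩ := exists_field_data (k + 1) (by omega)
  haveI : Fact q.Prime := ⟨hq⟩
  have hodd : Odd (Fintype.card (ZMod q)) := by rw [ZMod.card]; exact Nat.odd_iff.2 (by omega)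
  let T : Sylow 2 SL(2, ZMod q) := default
  obtain ⟨l, hl, ⟨e⟩⟩ := CfsgLib.Linear.sylow_two_SL2_quaternion hodd T
  have hcard : Nat.card SL(2, ZMod q) = 2 ^ (k + 2) * (q * r * s) := by
    rw [CfsgLib.Linear.card_SL_two, ZMod.card, show q ^ 2 - 1 = (q + 1) * (q - 1) by
      rw [← Nat.sq_sub_sq, one_pow], hq1, hq2, pow_succ (n := k + 1)]
    ring
  have hT := GLTwoSylow.card_sylow_two hcard (((Nat.odd_iff.2 (by omega)).mul hr).mul hs) T
  rw [Nat.card_congr e.toEquiv, Nat.card_eq_fintype_card, QuaternionGroup.card,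
    show 4 * 2 ^ l = 2 ^ (l + 2) by ring] at hT
  obtain rfl : l = k := by have := Nat.pow_right_injective le_rfl hT; omega
  exact (witness_of_hom (GLTwoSylow.two_ne_zero_of_odd hodd) (MonoidHom.id _)
    (fun u hu => Or.inl hu) T).congr e.symm

theorem gl_qd_data (p : ℕ) : ∃ (q : ℕ) (_ : Fact q.Prime), q % 4 = 3 ∧
    ∀ T : Sylow 2 (GL (Fin 2) (ZMod q)), ∃ D : QDGens (T : Subgroup (GL (Fin 2) (ZMod q))),
      D.p = p := by
  obtain ⟨q, hq, h4, r, s, hr, hs, hq1, hq2⟩ := exists_field_data (p + 2) (by omega)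
  haveI : Fact q.Prime := ⟨hq⟩
  refine ⟨q, inferInstance, h4, fun T => ?_⟩
  have hcard : Nat.card (GL (Fin 2) (ZMod q)) = 2 ^ (p + 4) * (q * r * s ^ 2) := by
    rw [GLTwoSylow.card_gl_two, ZMod.card, hq1, hq2]
    ring
  have hT := GLTwoSylow.card_sylow_two hcard (((Nat.odd_iff.2 (by omega)).mul hr).mul hs.pow) T
  obtain ⟨D⟩ := exists_qdGens (GLTwoSylow.gl_quasiDihedral (by rw [ZMod.card]; exact h4) T)
  refine ⟨D, ?_⟩
  have := Nat.pow_right_injective le_rfl (D.hcard.symm.trans hT)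
  omega

theorem witness_quasiDihedral {A : Type*} [Group A] [Finite A] (hA : Cfsg.IsQuasiDihedral A) :
    HasWitness A := by
  obtain ⟨E⟩ := exists_qdGens hA
  obtain ⟨q, _, h4, hD⟩ := gl_qd_data E.p
  let T : Sylow 2 (GL (Fin 2) (ZMod q)) := default
  obtain ⟨D, hDp⟩ := hD T
  obtain ⟨e⟩ := qd_mulEquiv E D hDp.symm
  have h2 : (2 : ZMod q) ≠ 0 := GLTwoSylow.two_ne_zero_of_odd
    (by rw [ZMod.card]; exact Nat.odd_iff.2 (by omega))
  refine (witness_of_hom h2 SpecialLinearGroup.toGL (fun u hu => Or.inl ?_) T).congr e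
  exact SpecialLinearGroup.toGL_injective (hu.trans (map_one _).symm)

theorem witness_dihedral (k : ℕ) (hk : 2 ≤ k) : HasWitness (DihedralGroup (2 ^ k)) := by
  obtain ⟨p, rfl⟩ : ∃ p, k = p + 2 := ⟨k - 2, by omega⟩
  obtain ⟨q, _, h4, hD⟩ := gl_qd_data p
  have h2 : (2 : ZMod q) ≠ 0 := GLTwoSylow.two_ne_zero_of_odd
    (by rw [ZMod.card]; exact Nat.odd_iff.2 (by omega))
  set z : GL (Fin 2) (ZMod q) := -1 with hz
  have hzc : ∀ u, z * u = u * z := fun u => by rw [hz, neg_one_mul, mul_neg_one]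
  have hz1 : z ≠ 1 := fun h => h2 (by
    have h3 := congrArg (fun M : GL (Fin 2) (ZMod q) => (M : Matrix (Fin 2) (Fin 2) (ZMod q)) 0 0) h
    simp [hz] at h3
    linear_combination -h3)
  have hzo : orderOf z = 2 := orderOf_eq_prime (by rw [hz, neg_one_sq]) hz1
  haveI hN : (Subgroup.zpowers z).Normal := ⟨fun u hu g => by
    obtain ⟨n, rfl⟩ := hu
    rw [show g * z ^ n * g⁻¹ = z ^ n by
      rw [← (Commute.zpow_left (hzc g) n).eq, mul_inv_cancel_right]]
    exact ⟨n, rfl⟩⟩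
  have hmem : ∀ u, u ∈ Subgroup.zpowers z ↔ u = 1 ∨ u = z := by
    intro u
    refine ⟨?_, ?_⟩
    · rintro ⟨n, rfl⟩
      show z ^ n = 1 ∨ z ^ n = z
      rw [← zpow_mod_orderOf, hzo]
      rcases Int.emod_two_eq n with h | h <;> simp [h]
    · rintro (rfl | rfl)
      · exact one_mem _
      · exact Subgroup.mem_zpowers _
  let T : Sylow 2 (GL (Fin 2) (ZMod q)) := default
  obtain ⟨D, hDp⟩ := hD T
  set π := QuotientGroup.mk' (Subgroup.zpowers z)
  let T' := T.mapSurjective (f := π) (QuotientGroup.mk'_surjective _)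
  have hzT : z ∈ (T : Subgroup (GL (Fin 2) (ZMod q))) := by
    obtain ⟨g, hg⟩ := CfsgLib.Fusion.exists_conj_le_sylow T
      (GLTwoSylow.isPGroup_zpowers (n := 1) (x := z) (by rw [hzo]; norm_num))
    have h1 := hg z (Subgroup.mem_zpowers z)
    rwa [← hzc, mul_inv_cancel_right] at h1
  let ρ : (T : Subgroup (GL (Fin 2) (ZMod q))) →* (T' : Subgroup _) :=
    (π.comp (T : Subgroup (GL (Fin 2) (ZMod q))).subtype).codRestrict _ fun x =>
      Subgroup.mem_map_of_mem π x.2
  have hρ : Function.Surjective ρ := by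
    rintro ⟨_, x, hx, rfl⟩
    exact ⟨⟨x, hx⟩, rfl⟩
  obtain ⟨e⟩ := qd_image_dihedral D ρ hρ (z := ⟨z, hzT⟩) (by rw [← Subgroup.orderOf_coe]; exact hzo)
    (fun a => Subtype.ext (hzc a)) (fun a => by
      rw [Subtype.ext_iff, Subtype.ext_iff, Subtype.ext_iff]
      show π (a : GL (Fin 2) (ZMod q)) = 1 ↔ _
      exact (QuotientGroup.eq_one_iff _).trans (hmem _))
  rw [hDp] at e
  refine (witness_of_hom h2 (π.comp SpecialLinearGroup.toGL) (fun u hu => ?_) T').congr e.symm
  rcases (hmem _).1 ((QuotientGroup.eq_one_iff _).1 hu) with h | h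
  · exact Or.inl (SpecialLinearGroup.toGL_injective (h.trans (map_one _).symm))
  · refine Or.inr (SpecialLinearGroup.toGL_injective (h.trans (Units.ext ?_)))
    simp [hz]

end CfsgLib.FusionMetacyclic
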